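import Groth.Agent.TrivBCLib.Actions
import Groth.Agent.DTenLib.RelDual

/-!
# Trivial duality base change versus the evaluation map
-/

universe u

open CategoryTheory Limits MonoidalCategory HomologicalComplex DTen

namespace Groth.Agent.TrivBCLib

attribute [local instance] HasDerivedCategory.standard

set_option linter.style.haveILetI false

open Groth.Agent.DTenLib Groth.Agent.DRingKFlat Groth.Agent.DRingTorAmp

variable {R A R' A' : Type u} [CommRing R] [CommRing A] [CommRing R'] [CommRing A']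
  {φ : R →+* A} {ρ : R →+* R'} {α : A →+* A'} {φ' : R' →+* A'} (h : α.comp φ = φ'.comp ρ)
  [HasLTen R] [HasLTen₃ R] [IsSymMonoidal R] [HasLTen A] [HasResTen φ] [ResLegIso φ] [HasLBase φ]
  [HasLTen R'] [HasResTen ρ] [ResLegIso ρ] [HasLBase ρ]
  [DRing.HasLBaseChange ρ] [DRing.HasLBaseChange α]
  (adjρ : DRing.LBaseChange ρ ⊣ DRing.restrictD ρ) (adjα : DRing.LBaseChange α ⊣ DRing.restrictD α)
  {Rφ : Dual.D R ⥤ Dual.D A} (adj : DRing.restrictD φ ⊣ Rφ)
  {Rφ' : Dual.D R' ⥤ Dual.D A'} (adj' : DRing.restrictD φ' ⊣ Rφ')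

/-- `S' ⊗ X ⟶ res (X ⊗ᴸ R')` for the given adjunction. -/
noncomputable def bp (X : Dual.D R) :
    (LTen₂ R).obj (resOne ρ, X) ⟶ (DRing.restrictD ρ).obj ((DRing.LBaseChange ρ).obj X) :=
  tm (𝟙 _) (adjρ.unit.app X) ≫ act ρ ((DRing.LBaseChange ρ).obj X)

omit [HasLTen₃ R] [IsSymMonoidal R] [HasLTen A] [HasResTen φ] [ResLegIso φ] [HasLBase φ]
  [DRing.HasLBaseChange α] in
theorem bp_natural {X X' : Dual.D R} (f : X ⟶ X') :
    tm (𝟙 _) f ≫ bp adjρ X' = bp adjρ X ≫ (DRing.restrictD ρ).map ((DRing.LBaseChange ρ).map f) := by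
  have hn : f ≫ adjρ.unit.app X' = adjρ.unit.app X ≫ (DRing.restrictD ρ).map ((DRing.LBaseChange ρ).map f) :=
    adjρ.unit.naturality f
  rw [bp, bp, Category.assoc, ← act_natural, ← tm_comp_right_assoc, ← tm_comp_right_assoc, hn]

omit [HasLTen₃ R] [IsSymMonoidal R] [HasLTen A] [HasResTen φ] [ResLegIso φ] [HasLBase φ]
  [DRing.HasLBaseChange α] in
theorem isIso_bp (X : Dual.D R) : IsIso (bp adjρ X) := by
  haveI := isIso_baseProj ρ X
  let i := ((baseAdj ρ).leftAdjointUniq adjρ)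
  have hu : (baseAdj ρ).unit.app X ≫ (DRing.restrictD ρ).map (i.hom.app X) = adjρ.unit.app X :=
    Adjunction.unit_leftAdjointUniq_hom_app _ _ _
  have e : bp adjρ X = baseProj ρ X ≫ (DRing.restrictD ρ).map (i.hom.app X) := by
    rw [bp, baseProj, Category.assoc, ← act_natural, ← tm_comp_right_assoc, hu]
  rw [e]
  infer_instance

/-- The action unit. -/
noncomputable def theta (W : Dual.D A) :
    (LTen₂ R).obj (resOne ρ, (DRing.restrictD φ).obj W) ⟶
      (DRing.restrictD φ).obj ((DRing.restrictD α).obj ((DRing.LBaseChange α).obj W)) :=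
  tm (𝟙 _) ((DRing.restrictD φ).map (adjα.unit.app W)) ≫ actR h _

omit [HasLTen₃ R] [IsSymMonoidal R] [HasLTen A] [HasResTen φ] [ResLegIso φ] [HasLBase φ] in
theorem theta_eq (W : Dual.D A) :
    theta h adjα W ≫ (TrivBC.resComm h).hom.app ((DRing.LBaseChange α).obj W) =
      bp adjρ ((DRing.restrictD φ).obj W) ≫ (DRing.restrictD ρ).map (TrivBC.cmp adjρ adjα h W) := by
  have hu : adjρ.unit.app ((DRing.restrictD φ).obj W) ≫ (DRing.restrictD ρ).map (TrivBC.cmp adjρ adjα h W) =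
      (DRing.restrictD φ).map (adjα.unit.app W) ≫
        (TrivBC.resComm h).hom.app ((DRing.LBaseChange α).obj W) :=
    (adjρ.homEquiv_unit _ _ _).symm.trans (Equiv.apply_symm_apply _ _)
  rw [bp, Category.assoc, ← act_natural, ← tm_comp_right_assoc, hu, theta, actR]
  simp only [Category.assoc, Iso.inv_hom_id_app]
  erw [Category.comp_id]
  rw [tm_comp_right_assoc]

include h in
theorem key_theta (W : Dual.D A) :
    tm (𝟙 (resOne φ)) (theta h adjα W) ≫ actA (φ := φ) (α := α) ((DRing.LBaseChange α).obj W) =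
      (DTen.associator (resOne φ) (resOne ρ) ((DRing.restrictD φ).obj W)).inv ≫
        tm ((DTen.symm R).app (resOne ρ, resOne φ)) (𝟙 _) ≫
          (DTen.associator (resOne ρ) (resOne φ) ((DRing.restrictD φ).obj W)).hom ≫
            tm (𝟙 _) (act φ W) ≫ theta h adjα W := by
  rw [theta, tm_comp_right, Category.assoc, Iso.eq_inv_comp, ← associator_natural_assoc, tm_id]
  erw [act_comm]
  rw [← tm_comp_assoc, Category.id_comp]
  erw [Category.comp_id]
  rw [show tm ((DTen.symm R).app (resOne ρ, resOne φ)) ((DRing.restrictD φ).map (adjα.unit.app W)) =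
      tm ((DTen.symm R).app (resOne ρ, resOne φ)) (𝟙 _) ≫ tm (𝟙 _) ((DRing.restrictD φ).map (adjα.unit.app W)) by
        rw [← tm_comp, Category.comp_id, Category.id_comp], Category.assoc]
  refine congrArg (fun z => tm ((DTen.symm R).app (resOne ρ, resOne φ)) (𝟙 _) ≫ z) ?_
  rw [← tm_id (resOne ρ) (resOne φ)]
  erw [associator_natural_assoc, ← tm_comp_right_assoc]
  rw [← tm_comp_right_assoc]
  refine congrArg (fun z => (DTen.associator (resOne ρ) (resOne φ) ((DRing.restrictD φ).obj W)).hom ≫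
    tm (𝟙 _) z ≫ actR h _) ?_
  exact act_natural φ (adjα.unit.app W)

omit [HasLTen₃ R] [IsSymMonoidal R] [HasLTen R'] [HasResTen ρ] [ResLegIso ρ] [HasLBase ρ]
  [DRing.HasLBaseChange ρ] [DRing.HasLBaseChange α] in
theorem lUniv_act_counit (K : Dual.D R) : LUniv (act φ (Rφ.obj K) ≫ adj.counit.app K) := fun X => by
  haveI := isIso_baseProj φ X
  let e := (baseAdj φ).homEquiv X (Rφ.obj K)
  have key : (fun g : X ⟶ (DRing.restrictD φ).obj (Rφ.obj K) => tm (𝟙 _) g ≫ act φ (Rφ.obj K) ≫ adj.counit.app K) =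
      (fun x => (asIso (baseProj φ X)).hom ≫ x) ∘ (adj.homEquiv _ K).symm ∘ e.symm := by
    funext g
    obtain ⟨g', rfl⟩ := e.surjective g
    simp only [Function.comp_apply, Equiv.symm_apply_apply, asIso_hom]
    show tm (𝟙 _) ((baseAdj φ).homEquiv X _ g') ≫ _ = _
    rw [Adjunction.homEquiv_unit, Adjunction.homEquiv_counit, baseProj, tm_comp_right, Category.assoc,
      Category.assoc, reassoc_of% (act_natural φ g')]
  rw [key]
  exact (asIso (baseProj φ X)).symm.homFromEquiv.bijective.comp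
    ((adj.homEquiv _ K).symm.bijective.comp e.symm.bijective)

include h adjα in
omit [HasLTen₃ R] [IsSymMonoidal R] [HasLTen R'] [HasResTen ρ] [ResLegIso ρ] [HasLBase ρ] in
theorem lUniv_target (hcmp : ∀ U : Dual.D A, IsIso (TrivBC.cmp adjρ adjα h U)) (L : Dual.D R') :
    LUniv (actA (φ := φ) (α := α) (Rφ'.obj L) ≫ (TrivBC.resComm h).hom.app (Rφ'.obj L) ≫
      (DRing.restrictD ρ).map (adj'.counit.app L)) := fun X => by
  haveI := isIso_baseProj φ X
  haveI := hcmp ((LBase φ).obj X)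
  let e := (baseAdj φ).homEquiv X ((DRing.restrictD α).obj (Rφ'.obj L))
  let c := TrivBC.cmp adjρ adjα h ((LBase φ).obj X)
  have key : (fun g : X ⟶ (DRing.restrictD φ).obj ((DRing.restrictD α).obj (Rφ'.obj L)) =>
      tm (𝟙 _) g ≫ actA (φ := φ) (α := α) (Rφ'.obj L) ≫ (TrivBC.resComm h).hom.app (Rφ'.obj L) ≫
        (DRing.restrictD ρ).map (adj'.counit.app L)) =
      (fun x => (asIso (baseProj φ X)).hom ≫ x) ∘ (adjρ.homEquiv _ _) ∘ (fun x => (asIso c).hom ≫ x) ∘
        (adj'.homEquiv _ L).symm ∘ (adjα.homEquiv _ _).symm ∘ e.symm := by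
    funext g
    obtain ⟨g', rfl⟩ := e.surjective g
    obtain ⟨u, rfl⟩ := (adjα.homEquiv _ _).surjective g'
    simp only [Function.comp_apply, Equiv.symm_apply_apply, asIso_hom]
    show tm (𝟙 _) ((baseAdj φ).homEquiv X _ _) ≫ _ = _
    rw [Adjunction.homEquiv_unit, baseProj, tm_comp_right, Category.assoc, Category.assoc, actA,
      reassoc_of% (act_natural φ (adjα.homEquiv _ _ u))]
    refine congrArg (fun z => tm (𝟙 _) ((baseAdj φ).unit.app X) ≫ act φ _ ≫ z) ?_
    have hn : (DRing.restrictD φ).map ((DRing.restrictD α).map u) ≫ (TrivBC.resComm h).hom.app (Rφ'.obj L) =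
        (TrivBC.resComm h).hom.app _ ≫ (DRing.restrictD ρ).map ((DRing.restrictD φ').map u) :=
      (TrivBC.resComm h).hom.naturality u
    rw [Adjunction.homEquiv_unit, Functor.map_comp, Category.assoc, reassoc_of% hn, adjρ.homEquiv_naturality_right,
      Adjunction.homEquiv_counit, Functor.map_comp]
    rw [show adjρ.homEquiv _ _ c = (DRing.restrictD φ).map (adjα.unit.app _) ≫
      (TrivBC.resComm h).hom.app _ from Equiv.apply_symm_apply _ _, Category.assoc]
  rw [key]
  exact (asIso (baseProj φ X)).symm.homFromEquiv.bijective.comp ((adjρ.homEquiv _ _).bijective.comp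
    ((asIso c).symm.homFromEquiv.bijective.comp ((adj'.homEquiv _ L).symm.bijective.comp
      ((adjα.homEquiv _ _).symm.bijective.comp e.symm.bijective))))

/-- `auxTen` with the two tensor factors exchanged. -/
noncomputable def v1 (ρ : R →+* R') (φ : R →+* A) [HasLTen R] [HasLTen A] [HasResTen φ] [ResLegIso φ] [HasLTen₃ R]
    [IsSymMonoidal R] {Rφ : Dual.D R ⥤ Dual.D A} (adj : DRing.restrictD φ ⊣ Rφ) (K : Dual.D R) :
    (LTen₂ R).obj (resOne φ, (LTen₂ R).obj (resOne ρ, (DRing.restrictD φ).obj (Rφ.obj K))) ⟶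
      (LTen₂ R).obj (resOne ρ, K) :=
  (DTen.associator (resOne φ) (resOne ρ) ((DRing.restrictD φ).obj (Rφ.obj K))).inv ≫
    tm ((DTen.symm R).app (resOne ρ, resOne φ)) (𝟙 _) ≫
      (DTen.associator (resOne ρ) (resOne φ) ((DRing.restrictD φ).obj (Rφ.obj K))).hom ≫
        tm (𝟙 _) (act φ (Rφ.obj K) ≫ adj.counit.app K)

include h in
theorem bcMap_iff_lUniv (hcmp : ∀ U : Dual.D A, IsIso (TrivBC.cmp adjρ adjα h U)) (K : Dual.D R)
    (hc : IsIso (TrivBC.cmp adjρ adjα h (Rφ.obj K))) :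
    IsIso (TrivBC.bcMap adjρ adjα h adj adj' K hc) ↔ LUniv (v1 ρ φ adj K) := by
  let W := Rφ.obj K
  let L := (DRing.LBaseChange ρ).obj K
  let β := TrivBC.bcMap adjρ adjα h adj adj' K hc
  haveI := isIso_bp adjρ K
  haveI := isIso_bp adjρ ((DRing.restrictD φ).obj W)
  haveI : IsIso (theta h adjα W) := by
    haveI : IsIso (theta h adjα W ≫ (TrivBC.resComm h).hom.app ((DRing.LBaseChange α).obj W)) := by
      rw [theta_eq h adjρ]; infer_instance
    exact IsIso.of_isIso_comp_right _ ((TrivBC.resComm h).hom.app ((DRing.LBaseChange α).obj W))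
  let v3 := actA (φ := φ) (α := α) (Rφ'.obj L) ≫ (TrivBC.resComm h).hom.app (Rφ'.obj L) ≫
    (DRing.restrictD ρ).map (adj'.counit.app L)
  have hv3 : LUniv v3 := lUniv_target h adjρ adjα adj' hcmp L
  let j := theta h adjα W ≫ (DRing.restrictD φ).map ((DRing.restrictD α).map β)
  have hβ : (DRing.restrictD φ').map β ≫ adj'.counit.app L =
      inv (TrivBC.cmp adjρ adjα h W) ≫ (DRing.LBaseChange ρ).map (adj.counit.app K) :=
    (adj'.homEquiv_counit _ _ β).symm.trans (Equiv.symm_apply_apply _ _)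
  have key : v1 ρ φ adj K ≫ bp adjρ K = tm (𝟙 (resOne φ)) j ≫ v3 := by
    have hb : theta h adjα W ≫ (TrivBC.resComm h).hom.app ((DRing.LBaseChange α).obj W) ≫
        (DRing.restrictD ρ).map (inv (TrivBC.cmp adjρ adjα h W) ≫ (DRing.LBaseChange ρ).map (adj.counit.app K)) =
        tm (𝟙 _) (adj.counit.app K) ≫ bp adjρ K := by
      rw [reassoc_of% (theta_eq h adjρ adjα W), ← Functor.map_comp, IsIso.hom_inv_id_assoc]
      exact (bp_natural adjρ (adj.counit.app K)).symm
    have hn : (DRing.restrictD φ).map ((DRing.restrictD α).map β) ≫ (TrivBC.resComm h).hom.app (Rφ'.obj L) =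
        (TrivBC.resComm h).hom.app _ ≫ (DRing.restrictD ρ).map ((DRing.restrictD φ').map β) :=
      (TrivBC.resComm h).hom.naturality β
    show _ = tm (𝟙 _) (theta h adjα W ≫ _) ≫ act φ _ ≫ _
    rw [tm_comp_right_assoc, reassoc_of% (act_natural φ ((DRing.restrictD α).map β)), reassoc_of% hn,
      ← Functor.map_comp, hβ]
    have hk := key_theta h adjα W
    rw [actA] at hk
    erw [reassoc_of% hk, hb]
    simp only [v1, tm_comp_right, Category.assoc]
    rfl
  have e : v1 ρ φ adj K = (tm (𝟙 (resOne φ)) j ≫ v3) ≫ inv (bp adjρ K) := by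
    rw [← key, Category.assoc, IsIso.hom_inv_id, Category.comp_id]
  constructor
  · intro hb
    haveI : IsIso β := hb
    rw [e]
    exact (hv3.of_iso j).comp_iso _
  · intro hu
    haveI : IsIso j := (hu.comp_iso (bp adjρ K)).isIso hv3 key.symm
    haveI : IsIso ((DRing.restrictD φ).map ((DRing.restrictD α).map β)) :=
      IsIso.of_isIso_comp_left (theta h adjα W) _
    haveI := isIso_of_restrictD φ ((DRing.restrictD α).map β)
    exact isIso_of_restrictD α β

variable [HasRHom R]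

omit [HasLTen R'] [HasResTen ρ] [ResLegIso ρ] [HasLBase ρ] [DRing.HasLBaseChange ρ]
  [DRing.HasLBaseChange α] in
theorem lUniv_v1_iff (ρ : R →+* R') (K : Dual.D R) :
    LUniv (v1 ρ φ adj K) ↔ IsIso (DTen.evalTen (resOne ρ) K (resOne φ)) := by
  haveI := IsSymMonoidal.isIso_symm (A := R)
  let W := (DRing.restrictD φ).obj (Rφ.obj K)
  let u' : (LTen₂ R).obj (W, resOne φ) ⟶ K := (DTen.symm R).app (resOne φ, W) ≫ act φ (Rφ.obj K) ≫ adj.counit.app K
  have swap : ∀ {V L : Dual.D R} (v : (LTen₂ R).obj (resOne φ, V) ⟶ L),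
      LUniv v ↔ IsUniv ((DTen.symm R).app (resOne φ, V) ≫ v) := by
    intro V L v
    refine forall_congr' fun X => ?_
    have e : (fun g : X ⟶ V => tm g (𝟙 (resOne φ)) ≫ (DTen.symm R).app (resOne φ, V) ≫ v) =
        (fun x => (asIso ((DTen.symm R).app (resOne φ, X))).hom ≫ x) ∘ fun g => tm (𝟙 _) g ≫ v := by
      funext g
      have hn : tm g (𝟙 (resOne φ)) ≫ (DTen.symm R).app (resOne φ, V) =
          (DTen.symm R).app (resOne φ, X) ≫ tm (𝟙 _) g :=
        (DTen.symm R).naturality (Prod.mkHom (𝟙 (resOne φ)) g)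
      simp only [Function.comp_apply, asIso_hom]
      rw [reassoc_of% hn]
    rw [e]
    exact ((asIso ((DTen.symm R).app (resOne φ, X))).symm.homFromEquiv.bijective.of_comp_iff' _).symm
  have hu' : IsUniv u' := (swap _).1 (lUniv_act_counit adj K)
  haveI := isIso_adjunct hu'
  let j := rhomHomEquiv _ _ _ u'
  have hv : (DTen.symm R).app (resOne φ, (LTen₂ R).obj (resOne ρ, W)) ≫ v1 ρ φ adj K =
      tm (tm (𝟙 (resOne ρ)) j) (𝟙 (resOne φ)) ≫ auxTen (resOne ρ) (DTen.ev (resOne φ) K) := by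
    rw [auxTen_comp, tm_adjunct, v1]
    erw [reassoc_of% hexagon (resOne φ) (resOne ρ) W]
    rw [auxTen, ← tm_comp_right]
  rw [swap, hv]
  constructor
  · intro hA
    have hA' := hA.of_iso ((LTen₂ R).mapIso (Iso.prod (Iso.refl (resOne ρ)) (asIso j).symm))
    have e : tm ((LTen₂ R).mapIso (Iso.prod (Iso.refl (resOne ρ)) (asIso j).symm)).hom (𝟙 (resOne φ)) ≫
        tm (tm (𝟙 (resOne ρ)) j) (𝟙 (resOne φ)) ≫ auxTen (resOne ρ) (DTen.ev (resOne φ) K) =
        auxTen (resOne ρ) (DTen.ev (resOne φ) K) := by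
      rw [← tm_comp_left_assoc]
      show tm (tm (𝟙 _) (inv j) ≫ tm (𝟙 _) j) (𝟙 _) ≫ _ = _
      rw [← tm_comp_right, IsIso.inv_hom_id, tm_id, tm_id, Category.id_comp]
    rw [e] at hA'
    exact isIso_adjunct hA'
  · intro hA
    haveI : IsIso (rhomHomEquiv _ _ _ (auxTen (resOne ρ) (DTen.ev (resOne φ) K))) := hA
    exact (IsUniv.of_adjunct _).of_iso ((LTen₂ R).mapIso (Iso.prod (Iso.refl (resOne ρ)) (asIso j)))

end Groth.Agent.TrivBCLib
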