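import Groth.Agent.DTenLib.Closed
import Groth.Agent.DTenLib.Dualizable
import Groth.Agent.DTenLib.Amp
import Mathlib.CategoryTheory.Adjunction.AdjointFunctorTheorems
import Mathlib.CategoryTheory.Adjunction.Additive
import Mathlib.Algebra.Homology.GrothendieckAbelian
import Mathlib.Algebra.Category.ModuleCat.AB

/-!
# `D(R)` is closed: `- ⊗^L L` has a right adjoint
-/

universe u

open CategoryTheory Limits MonoidalCategory HomologicalComplex DTen

namespace Groth.Agent.TrivBCLib

attribute [local instance] HasDerivedCategory.standard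

set_option linter.style.haveILetI false

open Groth.Agent.DTenLib Groth.Agent.DRingKFlat Groth.Agent.DRingTorAmp

variable {R : Type u} [CommRing R]

theorem isLeftAdjoint_tensorRight (P : DRing.Cx R) : (tensorRight P).IsLeftAdjoint := by
  haveI : PreservesColimitsOfSize.{u, u} (tensorRight P) := ⟨fun {J} _ =>
    tensorCx_flip_preservesColimitsOfShape P J⟩
  haveI : WellPowered.{u} (DRing.Cx R)ᵒᵖ := inferInstance
  exact isLeftAdjoint_of_preservesColimits_of_isSeparating
    (P := ObjectProperty.singleton (separator (DRing.Cx R))) (isSeparator_separator _) _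

theorem isKProjective_sgl_tensor (i : ℤ) (P : DRing.Cx R) [P.IsKProjective] :
    (sgl R i ⊗ P : DRing.Cx R).IsKProjective := by
  have hf : DRing.TermwiseFiniteProjective (sgl R i) := fun j => by
    by_cases hj : j = i
    · subst hj
      let e := (singleObjXSelf (ComplexShape.up ℤ) j (ModuleCat.of R R)).toLinearEquiv
      exact ⟨Module.Finite.equiv e.symm, Module.Projective.of_equiv e.symm⟩
    · haveI := ModuleCat.subsingleton_of_isZero (sgl_outside (A := R) i j hj)
      exact ⟨inferInstance, inferInstance⟩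
  have ho : DRing.VanishesOutside (sgl R i) i i := fun j hj => sgl_outside i j (by omega)
  obtain ⟨B⟩ := exists_dualBases ho hf
  letI := B.pairing
  have hN : IsKFl (dualCx (sgl R i)) := by
    refine isKFl_of_flat (b := -i) (fun j hj => ?_) fun j => ?_
    · haveI := ModuleCat.subsingleton_of_isZero (sgl_outside (A := R) i (-j) (by omega))
      haveI : Subsingleton (Module.Dual R ((sgl R i).X (-j))) :=
        ⟨fun f g => LinearMap.ext fun x => by rw [Subsingleton.elim x 0, map_zero, map_zero]⟩
      exact ModuleCat.isZero_of_subsingleton (ModuleCat.of R (Module.Dual R ((sgl R i).X (-j))))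
    · haveI := (hf (-j)).1
      haveI := (hf (-j)).2
      haveI := projective_dual (A := R) ((sgl R i).X (-j))
      exact (Module.Flat.of_projective : Module.Flat R (Module.Dual R ((sgl R i).X (-j))))
  haveI := hasLTen R
  haveI := isKProjective_tensor (tensorRightAdjunction (sgl R i) (dualCx (sgl R i)))
    (fun F hF => isKFlat_iff.1 hN F hF) P
  exact CochainComplex.isKProjective_of_iso (DTen.braidCx P (sgl R i))

/-- The retraction of `inr : K ⟶ cone(𝟙)`, tensored with `P`. -/
noncomputable def retr (K P : DRing.Cx R) (n : ℤ) :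
    (CochainComplex.mappingCone (𝟙 K) ⊗ P : DRing.Cx R).X n ⟶ (K ⊗ P : DRing.Cx R).X n :=
  mapBifunctorDesc fun p q h =>
    ((CochainComplex.mappingCone.snd (𝟙 K)).v p p (add_zero p) ▷ P.X q) ≫ ιTensorObj K P p q n h

theorem retr_el (K P : DRing.Cx R) {p q n : ℤ} (h : p + q = n) (x : (CochainComplex.mappingCone (𝟙 K)).X p)
    (y : P.X q) :
    retr K P n (el (CochainComplex.mappingCone (𝟙 K)) P p q n h x y) =
      el K P p q n h ((CochainComplex.mappingCone.snd (𝟙 K)).v p p (add_zero p) x) y := by
  have e : ιTensorObj (CochainComplex.mappingCone (𝟙 K)) P p q n h ≫ retr K P n =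
      ((CochainComplex.mappingCone.snd (𝟙 K)).v p p (add_zero p) ▷ P.X q) ≫ ιTensorObj K P p q n h :=
    ι_mapBifunctorDesc _ p q h
  exact (congrArg (fun φ => φ (x ⊗ₜ[R] y)) e).trans rfl

theorem inr_retr (K P : DRing.Cx R) (n : ℤ) :
    (CochainComplex.mappingCone.inr (𝟙 K) ▷ P).f n ≫ retr K P n = 𝟙 _ := by
  refine hom_ext_el fun p q h x y => ?_
  rw [ConcreteCategory.comp_apply, whiskerRight_el, retr_el]
  exact congrArg (fun z => el K P p q n h z y)
    (congrArg (fun f => f x) (CochainComplex.mappingCone.inr_f_snd_v (𝟙 K) p))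

variable {P : DRing.Cx R} {G : DRing.Cx R ⥤ DRing.Cx R} (adj : tensorRight P ⊣ G)

include adj in
theorem acyclic_rightAdjoint [P.IsKProjective] {F : DRing.Cx R} (hF : F.Acyclic) : (G.obj F).Acyclic := by
  intro i
  rw [exact_d_iff _ (i - 1) i (i + 1) (by omega) rfl]
  intro z
  constructor
  · intro hz
    let s : sgl R i ⟶ G.obj F := HomologicalComplex.mkHomFromSingle
      (ModuleCat.ofHom (LinearMap.toSpanSingleton R ((G.obj F).X i) z)) fun k hk => by
        obtain rfl : i + 1 = k := hk
        refine ModuleCat.hom_ext (LinearMap.ext_ring ?_)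
        exact (congrArg _ (one_smul R z)).trans hz
    haveI : ((tensorRight P).obj (sgl R i)).IsKProjective := isKProjective_sgl_tensor i P
    obtain ⟨t⟩ := CochainComplex.IsKProjective.nonempty_homotopy_zero ((adj.homEquiv _ _).symm s) hF
    let C : DRing.Cx R := CochainComplex.mappingCone (𝟙 (sgl R i))
    let f' : C ⊗ P ⟶ F := Homotopy.nullHomotopicMap fun a b => retr (sgl R i) P a ≫ t.hom a b
    have hf' : CochainComplex.mappingCone.inr (𝟙 (sgl R i)) ▷ P ≫ f' = (adj.homEquiv _ _).symm s := by
      rw [Homotopy.comp_nullHomotopicMap]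
      simp only [reassoc_of% inr_retr]
      refine HomologicalComplex.hom_ext _ _ fun n => ?_
      exact ((t.comm n).trans (add_zero _)).symm
    have hs : CochainComplex.mappingCone.inr (𝟙 (sgl R i)) ≫ adj.homEquiv _ _ f' = s := by
      rw [← Adjunction.homEquiv_naturality_left]
      exact (congrArg _ hf').trans (Equiv.apply_symm_apply _ _)
    let e₁ : (sgl R i).X i := (singleObjXSelf (ComplexShape.up ℤ) i (ModuleCat.of R R)).inv (1 : R)
    have hse : s.f i e₁ = z := by
      show (HomologicalComplex.mkHomFromSingle _ _ : sgl R i ⟶ G.obj F).f i e₁ = z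
      rw [HomologicalComplex.mkHomFromSingle_f]
      show (LinearMap.toSpanSingleton R ((G.obj F).X i) z) ((singleObjXSelf (ComplexShape.up ℤ) i (ModuleCat.of R R)).hom e₁) = z
      rw [show (singleObjXSelf (ComplexShape.up ℤ) i (ModuleCat.of R R)).hom e₁ = (1 : R) from
        (singleObjXSelf (ComplexShape.up ℤ) i (ModuleCat.of R R)).inv_hom_id_apply (1 : R)]
      exact one_smul R z
    let c : C.X i := (CochainComplex.mappingCone.inr (𝟙 (sgl R i))).f i e₁
    have hc : C.d i (i + 1) c = 0 := by
      show C.d i (i + 1) ((CochainComplex.mappingCone.inr (𝟙 (sgl R i))).f i e₁) = 0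
      rw [← ConcreteCategory.comp_apply, (CochainComplex.mappingCone.inr (𝟙 (sgl R i))).comm,
        (sgl_outside (A := R) i (i + 1) (by omega)).eq_of_tgt ((sgl R i).d i (i + 1)) 0, zero_comp]
      rfl
    obtain ⟨w, hw⟩ := ((exact_d_iff C (i - 1) i (i + 1) (by omega) rfl).1
      (acyclic_cone_id (sgl R i) i) c).1 hc
    refine ⟨(adj.homEquiv _ _ f').f (i - 1) w, ?_⟩
    rw [← ConcreteCategory.comp_apply, (adj.homEquiv _ _ f').comm, ConcreteCategory.comp_apply, hw]
    exact ((congrArg (fun (g : sgl R i ⟶ G.obj F) => g.f i e₁) hs)).trans hse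
  · rintro ⟨w, rfl⟩
    exact congrArg (fun f => f w) ((G.obj F).d_comp_d (i - 1) i (i + 1))

include adj in
theorem Q_map_rightAdjoint_homotopy [P.IsKProjective] {X Y : DRing.Cx R} {a b : X ⟶ Y} (h : Homotopy a b) :
    DerivedCategory.Q.map (G.map a) = DerivedCategory.Q.map (G.map b) := by
  haveI : (tensorRight P).Additive := inferInstanceAs (((tCx R).flip.obj P).Additive)
  haveI : G.Additive := adj.right_adjoint_additive
  let t := Homotopy.equivSubZero h
  let C : DRing.Cx R := CochainComplex.mappingCone (𝟙 X)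
  let f' : C ⟶ Y := Homotopy.nullHomotopicMap fun i j =>
    (CochainComplex.mappingCone.snd (𝟙 X)).v i i (add_zero i) ≫ t.hom i j
  have hf' : CochainComplex.mappingCone.inr (𝟙 X) ≫ f' = a - b := by
    rw [Homotopy.comp_nullHomotopicMap]
    simp only [CochainComplex.mappingCone.inr_f_snd_v_assoc]
    exact HomologicalComplex.hom_ext _ _ fun n => ((t.comm n).trans (add_zero _)).symm
  have hz : IsZero (DerivedCategory.Q.obj (G.obj C)) := by
    haveI : QuasiIso (0 : G.obj C ⟶ G.obj C) := ⟨fun n => by
      have hac := acyclic_rightAdjoint adj (acyclic_cone_id X) n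
      exact (quasiIsoAt_iff_exactAt _ _ hac).2 hac⟩
    haveI : IsIso (0 : DerivedCategory.Q.obj (G.obj C) ⟶ DerivedCategory.Q.obj (G.obj C)) := by
      rw [← Functor.map_zero DerivedCategory.Q]
      exact (DerivedCategory.isIso_Q_map_iff_quasiIso _ _).2 inferInstance
    exact (IsZero.iff_id_eq_zero _).2 (by rw [← IsIso.hom_inv_id (0 : DerivedCategory.Q.obj (G.obj C) ⟶ DerivedCategory.Q.obj (G.obj C)), zero_comp])
  have h0 : DerivedCategory.Q.map (G.map (a - b)) = 0 := by
    rw [← hf', Functor.map_comp, Functor.map_comp, hz.eq_of_src (DerivedCategory.Q.map (G.map f')) 0, comp_zero]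
  rwa [Functor.map_sub, Functor.map_sub, sub_eq_zero] at h0

theorem hasRHom (R : Type u) [CommRing R] [HasLTen R] : HasRHom R := ⟨fun L => by
  obtain ⟨P, hP, ⟨i⟩⟩ := exists_kproj L
  haveI : P.IsKProjective := hP
  haveI := isLeftAdjoint_tensorRight P
  let adj := Adjunction.ofIsLeftAdjoint (tensorRight P)
  have key : ∀ M : Dual.D R, ∃ (W : Dual.D R) (a : (LTen₂ R).obj (W, L) ⟶ M), IsUniv a := by
    intro M
    obtain ⟨M, rfl⟩ := Q_obj_surjective M
    have hu := isUniv_valueEv adj (isKFl_of_isKProjective P) (fun F hF => acyclic_rightAdjoint adj hF)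
      (fun h => Q_map_rightAdjoint_homotopy adj h) M
    refine ⟨_, tm (𝟙 _) i.inv ≫ valueEv adj M, fun X => ?_⟩
    have e : (fun g => tm g (𝟙 L) ≫ tm (𝟙 (DerivedCategory.Q.obj ((tensorRight P).rightAdjoint.obj M))) i.inv ≫
        valueEv adj M) =
        (fun x => (asIso (tm (𝟙 X) i.inv)).hom ≫ x) ∘ fun g => tm g (𝟙 _) ≫ valueEv adj M :=
      funext fun g => by rw [Function.comp_apply, asIso_hom, tm_exchange_assoc]
    rw [e]
    exact (asIso (tm (𝟙 X) i.inv)).symm.homFromEquiv.bijective.comp (hu X)
  choose W a ha using key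
  refine ⟨_, ⟨Adjunction.adjunctionOfEquivRight (F := tensorRightD R L) (G_obj := W)
    (fun X M => (Equiv.ofBijective _ (ha M X)).symm) fun X' X M f g => ?_⟩⟩
  rw [Equiv.symm_apply_eq]
  show _ = tm (f ≫ _) (𝟙 L) ≫ a M
  rw [tm_comp_left_assoc]
  exact congrArg (_ ≫ ·) ((Equiv.ofBijective _ (ha M X)).apply_symm_apply g).symm⟩

end Groth.Agent.TrivBCLib
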