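import Groth.Agent.TrivBCLib.TorInd
import Groth.Agent.TrivBCLib.BCMapIff
import Groth.Agent.TrivBCLib.RHomExists
import Groth.Agent.DTenLib.PCEval

/-!
# Base change of trivial duality
-/

universe u

open CategoryTheory Limits MonoidalCategory DTen

namespace Groth.Agent.TrivBCLib

attribute [local instance] HasDerivedCategory.standard

set_option linter.style.haveILetI false

open Groth.Agent.DTenLib Groth.Agent.DRingKFlat Groth.Agent.DRingTorAmp

variable {R A R' A' : Type u} [CommRing R] [CommRing A] [CommRing R'] [CommRing A']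
  [Algebra R A] [Algebra R R'] [Algebra A A'] [Algebra R' A'] [Algebra R A'] [IsScalarTower R A A']
  [IsScalarTower R R' A'] [Algebra.IsPushout R A R' A']
  [DRing.HasLBaseChange (algebraMap R R')] [DRing.HasLBaseChange (algebraMap A A')]
  (adjρ : DRing.LBaseChange (algebraMap R R') ⊣ DRing.restrictD (algebraMap R R'))
  (adjα : DRing.LBaseChange (algebraMap A A') ⊣ DRing.restrictD (algebraMap A A'))
  (h : (algebraMap A A').comp (algebraMap R A) = (algebraMap R' A').comp (algebraMap R R'))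
  {Rφ : Dual.D R ⥤ Dual.D A} (adj : DRing.restrictD (algebraMap R A) ⊣ Rφ)
  {Rφ' : Dual.D R' ⥤ Dual.D A'} (adj' : DRing.restrictD (algebraMap R' A') ⊣ Rφ')

theorem bcMap_iff_evalTen (htor : ∀ p : ℕ, 1 ≤ p → Subsingleton (DRing.Tor R p A R')) (K : Dual.D R)
    (hc : IsIso (TrivBC.cmp adjρ adjα h (Rφ.obj K)))
    [HasLTen R] [HasLTen₃ R] [IsSymMonoidal R] [HasRHom R] :
    IsIso (TrivBC.bcMap adjρ adjα h adj adj' K hc) ↔
      IsIso (DTen.evalTen (resOne (algebraMap R R')) K (resOne (algebraMap R A))) := by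
  haveI := hasLTen A
  haveI := hasLTen R'
  haveI := hasResTen (algebraMap R A)
  haveI := resLegIso (algebraMap R A)
  haveI := hasLBase (algebraMap R A)
  haveI := hasResTen (algebraMap R R')
  haveI := resLegIso (algebraMap R R')
  haveI := hasLBase (algebraMap R R')
  obtain ⟨G, ε, hG, hε, hT⟩ := exists_torInd_resolution h htor
  exact (bcMap_iff_lUniv h adjρ adjα adj adj' (fun U => isIso_cmp h ε adjρ adjα hG U) K hc).trans
    (lUniv_v1_iff adj (algebraMap R R') K)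

theorem isIso_bcMap_of_perfect (hperf : DRing.IsPerfectModule R A)
    (htor : ∀ p : ℕ, 1 ≤ p → Subsingleton (DRing.Tor R p A R')) (K : Dual.D R)
    (hc : IsIso (TrivBC.cmp adjρ adjα h (Rφ.obj K))) :
    IsIso (TrivBC.bcMap adjρ adjα h adj adj' K hc) := by
  haveI := hasLTen R
  haveI := hasLTen₃ R
  haveI := isSymMonoidal R
  haveI := hasRHom R
  obtain ⟨E, a, b, hE, hf, ⟨e⟩⟩ := hperf
  obtain ⟨i⟩ := nonempty_resOne_iso (R := R) (R' := A)
  exact (bcMap_iff_evalTen adjρ adjα h adj adj' htor K hc).2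
    (isIso_evalTen_perfect ⟨E, a, b, hE, hf, ⟨e ≪≫ i⟩⟩ _ _)

theorem isIso_bcMap_of_pseudoCoherent (hpc : DRing.IsPseudoCoherentModule' R A)
    (hfd : DRing.HasFiniteTorDim R R') (htor : ∀ p : ℕ, 1 ≤ p → Subsingleton (DRing.Tor R p A R'))
    (K : Dual.D R) (n : ℤ) [K.IsGE n] (hc : IsIso (TrivBC.cmp adjρ adjα h (Rφ.obj K))) :
    IsIso (TrivBC.bcMap adjρ adjα h adj adj' K hc) := by
  haveI := hasLTen R
  haveI := hasLTen₃ R
  haveI := isSymMonoidal R
  haveI := hasRHom R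
  obtain ⟨E, b, hE, hf, ⟨e⟩⟩ := hpc
  obtain ⟨i⟩ := nonempty_resOne_iso (R := R) (R' := A)
  obtain ⟨j⟩ := nonempty_resOne_iso (R := R) (R' := R')
  obtain ⟨d, hd⟩ := hfd
  obtain ⟨F, hF, hFf, ⟨eF⟩⟩ := (hasTorDimLE_iff R' d).1 hd
  exact (bcMap_iff_evalTen adjρ adjα h adj adj' htor K hc).2
    (isIso_evalTen_of_pseudoCoherent (S := resOne (algebraMap R R')) (K := resOne (algebraMap R A))
      ⟨F, hF, hFf, ⟨eF ≪≫ j⟩⟩ ⟨E, b, hE, hf, ⟨e ≪≫ i⟩⟩ n)

end Groth.Agent.TrivBCLib
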