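import Groth.Agent.TrivBCLib.Cmp
import Groth.Agent.DRingKProj.Semifree
import Mathlib.RingTheory.IsTensorProduct

/-!
# Tor independence: a flat resolution of `R'` stays a resolution after tensoring with `A`
-/

universe u

open CategoryTheory Limits MonoidalCategory HomologicalComplex DTen
open scoped TensorProduct ChangeOfRings

namespace Groth.Agent.TrivBCLib

attribute [local instance] HasDerivedCategory.standard

set_option linter.style.haveILetI false

open Groth.Agent.DTenLib Groth.Agent.DRingKFlat Groth.Agent.DRingTorAmp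

section Basic

variable (R A : Type u) [CommRing R] [CommRing A] [Algebra R A]

/-- The scalar extension module is `A`. -/
noncomputable def idA : ((ModuleCat.restrictScalars.{u} (algebraMap R A)).obj (ModuleCat.of A A)) ≃ₗ[R] A :=
  { AddEquiv.refl A with map_smul' := fun r x => (Algebra.smul_def r (show A from x)).symm }

/-- The extension of scalars of a complex, termwise as a tensor product. -/
noncomputable def extT (G : DRing.Cx R) (j : ℤ) :
    ((DTen.extCx (algebraMap R A)).obj G).X j ≃+ A ⊗[R] G.X j :=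
  (TensorProduct.congr (idA R A) (LinearEquiv.refl R (G.X j))).toAddEquiv

variable {R A}

theorem extT_tmul (G : DRing.Cx R) (j : ℤ) (a : A) (y : G.X j) :
    extT R A G j (a ⊗ₜ[R,algebraMap R A] y : ((DTen.extCx (algebraMap R A)).obj G).X j) = a ⊗ₜ[R] y := rfl

theorem extT_d (G : DRing.Cx R) (i j : ℤ) (z : ((DTen.extCx (algebraMap R A)).obj G).X i) :
    extT R A G j (((DTen.extCx (algebraMap R A)).obj G).d i j z) =
      (G.d i j).hom.lTensor A (extT R A G i z) := by
  obtain ⟨t, rfl⟩ := (extT R A G i).symm.surjective z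
  rw [AddEquiv.apply_symm_apply]
  induction t with
  | zero => simp
  | tmul a y => rfl
  | add a b ha hb => simp only [map_add, ha, hb]

theorem exactAt_ext {G : DRing.Cx R} {i j k : ℤ} (hij : i + 1 = j) (hjk : j + 1 = k)
    (hG : Function.Exact ((G.d i j).hom.lTensor A) ((G.d j k).hom.lTensor A)) :
    ((DTen.extCx (algebraMap R A)).obj G).ExactAt j := by
  rw [exact_d_iff _ i j k hij hjk]
  intro z
  constructor
  · intro hz
    obtain ⟨w, hw⟩ := (hG (extT R A G j z)).1 (by rw [← extT_d, hz, map_zero])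
    refine ⟨(extT R A G i).symm w, (extT R A G j).injective ?_⟩
    rw [extT_d, AddEquiv.apply_symm_apply, hw]
  · rintro ⟨w, rfl⟩
    exact congrArg (fun f => f w) (((DTen.extCx (algebraMap R A)).obj G).d_comp_d i j k)

/-- Tor independence, read off from a K-flat resolution. -/
theorem exactAt_ext_of_tor {G : DRing.Cx R} (hG : IsKFl G) {R' : Type u} [AddCommGroup R'] [Module R R']
    (e : DRing.toD G ≅ DRing.toD ((HomologicalComplex.single (ModuleCat.{u} R) (ComplexShape.up ℤ) 0).obj
      (ModuleCat.of R R')))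
    (p : ℕ) (hp : 1 ≤ p) (htor : Subsingleton (DRing.Tor R p A R')) :
    ((DTen.extCx (algebraMap R A)).obj G).ExactAt (-(p : ℤ)) := by
  let P := projectiveResolution (ModuleCat.of R R')
  haveI : P.cochainComplex.IsKProjective := CochainComplex.isKProjective_of_projective _ 0
  have hπ' : IsIso (DerivedCategory.Q.map P.π') :=
    (DerivedCategory.isIso_Q_map_iff_quasiIso _ _).2 inferInstance
  let eP : DRing.toD P.cochainComplex ≅ DRing.toD ((HomologicalComplex.single (ModuleCat.{u} R)
      (ComplexShape.up ℤ) 0).obj (ModuleCat.of R R')) :=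
    @asIso _ _ _ _ (DerivedCategory.Q.map P.π') hπ'
  have hP : (DRing.tensorCx P.cochainComplex (ModuleCat.of R A)).ExactAt (-(p : ℤ)) :=
    (exact_chain_iff A P p hp).1 htor
  have hGA := (exactAt_tensor_congr hG (isKFl_of_isKProjective P.cochainComplex) e eP (ModuleCat.of R A) _).2 hP
  have hGA' := (exact_tensor_iff G (ModuleCat.of R A) (-(p : ℤ) - 1) (-(p : ℤ)) (-(p : ℤ) + 1) (by omega) rfl).1 hGA
  refine exactAt_ext (G := G) (i := -(p : ℤ) - 1) (j := -(p : ℤ)) (k := -(p : ℤ) + 1) (by omega) rfl ?_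
  exact (Function.Exact.iff_of_ladder_linearEquiv
    (e₁ := TensorProduct.comm R (G.X (-(p : ℤ) - 1)) A) (e₂ := TensorProduct.comm R (G.X (-(p : ℤ))) A)
    (e₃ := TensorProduct.comm R (G.X (-(p : ℤ) + 1)) A)
    (f₁₂ := (G.d (-(p : ℤ) - 1) (-(p : ℤ))).hom.rTensor A) (f₂₃ := (G.d (-(p : ℤ)) (-(p : ℤ) + 1)).hom.rTensor A)
    (g₁₂ := (G.d (-(p : ℤ) - 1) (-(p : ℤ))).hom.lTensor A) (g₂₃ := (G.d (-(p : ℤ)) (-(p : ℤ) + 1)).hom.lTensor A)
    (TensorProduct.ext' fun _ _ => rfl) (TensorProduct.ext' fun _ _ => rfl)).2 hGA'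

theorem coord_smul_one (B : Type u) [CommRing B] (c : B) : coord B (c • one B) = c := by
  rw [map_smul, show coord B (one B) = 1 from
    (singleObjXSelf (ComplexShape.up ℤ) 0 (𝟙_ (ModuleCat.{u} B))).inv_hom_id_apply (1 : B),
    smul_eq_mul, mul_one]

variable {R' : Type u} [CommRing R'] [Algebra R R']

/-- The augmentation, as a linear map to `R'`. -/
noncomputable def eps0 {G : DRing.Cx R}
    (ε : G ⟶ (DTen.resCx (algebraMap R R')).obj (𝟙_ (DRing.Cx R'))) : G.X 0 →ₗ[R] R' where
  toFun y := coord R' (ε.f 0 y)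
  map_add' a b := (congrArg (coord R') (map_add (ε.f 0).hom a b)).trans (map_add (coord R') _ _)
  map_smul' r a := ((congrArg (coord R') (map_smul (ε.f 0).hom r a)).trans
    (map_smul (coord R') (algebraMap R R' r) _)).trans (Algebra.smul_def r _).symm

/-- `res R'` is `R'` in degree `0`. -/
noncomputable def resOneIso :
    (DTen.resCx (algebraMap R R')).obj (𝟙_ (DRing.Cx R')) ≅
      (HomologicalComplex.single (ModuleCat.{u} R) (ComplexShape.up ℤ) 0).obj (ModuleCat.of R R') :=
  (singleMapHomologicalComplex (ModuleCat.restrictScalars.{u} (algebraMap R R')) (ComplexShape.up ℤ) 0).app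
      (ModuleCat.of R' R') ≪≫
    (HomologicalComplex.single (ModuleCat.{u} R) (ComplexShape.up ℤ) 0).mapIso
      (idA R R' : (ModuleCat.restrictScalars.{u} (algebraMap R R')).obj (ModuleCat.of R' R') ≃ₗ[R]
        ModuleCat.of R R').toModuleIso

end Basic

variable {R A R' A' : Type u} [CommRing R] [CommRing A] [CommRing R'] [CommRing A']
    [Algebra R A] [Algebra R R'] [Algebra A A'] [Algebra R' A'] [Algebra R A'] [IsScalarTower R A A']
    [IsScalarTower R R' A'] [Algebra.IsPushout R A R' A']
    (h : (algebraMap A A').comp (algebraMap R A) = (algebraMap R' A').comp (algebraMap R R'))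

theorem epsT_T {G : DRing.Cx R} (ε : G ⟶ (DTen.resCx (algebraMap R R')).obj (𝟙_ (DRing.Cx R')))
    (z : ((DTen.extCx (algebraMap R A)).obj G).X 0) :
    (epsT h ε).f 0 z = (Algebra.IsPushout.equiv R A R' A' ((eps0 ε).lTensor A (extT R A G 0 z)) • one A' :
      (𝟙_ (DRing.Cx A')).X 0) := by
  obtain ⟨t, rfl⟩ := (extT R A G 0).symm.surjective z
  rw [AddEquiv.apply_symm_apply]
  induction t with
  | zero => simp only [map_zero, zero_smul]; rfl
  | tmul a y =>
    refine (epsT_el h ε a y).trans ?_
    rw [LinearMap.lTensor_tmul, Algebra.IsPushout.equiv_tmul]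
    rfl
  | add a b ha hb =>
    simp only [map_add, add_smul, ha, hb]
    rfl

include h in
theorem exists_torInd_resolution (htor : ∀ p : ℕ, 1 ≤ p → Subsingleton (DRing.Tor R p A R')) :
    ∃ (G : DRing.Cx R) (ε : G ⟶ (DTen.resCx (algebraMap R R')).obj (𝟙_ (DRing.Cx R'))),
      IsKFl G ∧ QuasiIso ε ∧ QuasiIso (epsT h ε) := by
  have hK0 : ∀ n : ℤ, ¬ n ≤ 0 → ((DTen.resCx (algebraMap R R')).obj (𝟙_ (DRing.Cx R'))).ExactAt n := by
    intro n hn
    exact ShortComplex.exact_of_isZero_X₂ _ ((ModuleCat.restrictScalars.{u} (algebraMap R R')).map_isZero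
      (isZero_single_obj_X (ComplexShape.up ℤ) 0 _ _ (by omega)))
  obtain ⟨G, ε, hG, hε, -, hGb⟩ := DRingKProj.exists_resolution_of_exactAt
    (K := (DTen.resCx (algebraMap R R')).obj (𝟙_ (DRing.Cx R'))) (S := fun n => n ≤ 0) hK0
    (fun n (hn : n + 1 ≤ 0) => (show n ≤ 0 by omega))
  haveI := hG
  haveI : QuasiIso ε := hε
  refine ⟨G, ε, isKFl_of_isKProjective G, hε, ⟨fun i => ?_⟩⟩
  by_cases hi : i = 0
  · subst hi
    -- the degree `0` part of `ε`
    have hεb := (ConcreteCategory.isIso_iff_bijective _).1 ((ShortComplex.quasiIso_iff _).1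
      ((quasiIsoAt_iff' ε (-1) 0 1 (by simp) (by simp)).1 inferInstance))
    have hz1 : ∀ (X : DRing.Cx R) (_ : IsZero (X.X 1)) (x : X.X 0), X.d 0 1 x = 0 := fun X hX x =>
      @Subsingleton.elim _ (ModuleCat.subsingleton_of_isZero hX) _ _
    have hd : ∀ x : G.X 0, G.d 0 1 x = 0 := hz1 G (hGb 1 (by omega))
    have hres0 : ∀ w : ((DTen.resCx (algebraMap R R')).obj (𝟙_ (DRing.Cx R'))).X (-1), w = 0 := fun w =>
      eq_zero_of_ne _ (by omega) w
    have hex : Function.Exact (G.d (-1) 0).hom (eps0 ε) := by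
      intro x
      constructor
      · intro hx
        have hx0 : ε.f 0 x = 0 := by
          rw [← smul_coord R' (ε.f 0 x)]
          show (eps0 ε x • one R' : (𝟙_ (DRing.Cx R')).X 0) = (0 : (𝟙_ (DRing.Cx R')).X 0)
          rw [hx, zero_smul]
        obtain ⟨w, hw⟩ := (FlatComplex.homologyMap_injective_iff _).1 hεb.1 x (hd x)
          ⟨0, hx0.trans (map_zero _).symm⟩
        exact ⟨w, hw.symm⟩
      · rintro ⟨w, rfl⟩
        have hw : ε.f 0 (G.d (-1) 0 w) = 0 := by
          rw [← ConcreteCategory.comp_apply, ← ε.comm, ConcreteCategory.comp_apply, hres0 (ε.f (-1) w), map_zero]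
        exact (congrArg (coord R') hw).trans (map_zero _)
    have hsurj : Function.Surjective (eps0 ε) := fun c => by
      obtain ⟨x, -, w, hw⟩ := (FlatComplex.homologyMap_surjective_iff _).1 hεb.2
        (oneR (algebraMap R R') c)
        (@Subsingleton.elim _ (ModuleCat.subsingleton_of_isZero
          ((ModuleCat.restrictScalars.{u} (algebraMap R R')).map_isZero
            (isZero_single_obj_X (ComplexShape.up ℤ) 0 _ _ (by omega)))) _ _)
      refine ⟨x, ?_⟩
      have hx : ε.f 0 x = oneR (algebraMap R R') c := sub_eq_zero.1 (hw.trans (by rw [hres0 w]; exact map_zero _))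
      exact (congrArg (coord R') hx).trans (coord_smul_one R' c)
    have hTex := lTensor_exact A hex hsurj
    have hTsurj := LinearMap.lTensor_surjective A hsurj
    rw [quasiIsoAt_iff' _ (-1) 0 1 (by simp) (by simp), ShortComplex.quasiIso_iff,
      ConcreteCategory.isIso_iff_bijective]
    refine ⟨(FlatComplex.homologyMap_injective_iff _).2 ?_, (FlatComplex.homologyMap_surjective_iff _).2 ?_⟩
    · rintro x - ⟨w, hw⟩
      have hx : (epsT h ε).f 0 x = 0 := hw.trans (by
        rw [eq_zero_of_ne (algebraMap A A') (p := -1) (by omega) w]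
        exact map_zero _)
      rw [epsT_T] at hx
      have hc := congrArg (coord A') hx
      rw [coord_smul_one] at hc
      have hc' : Algebra.IsPushout.equiv R A R' A' ((eps0 ε).lTensor A (extT R A G 0 x)) = 0 :=
        hc.trans (map_zero (coord A'))
      obtain ⟨t, ht⟩ := (hTex _).1 ((map_eq_zero_iff _ (Algebra.IsPushout.equiv R A R' A').injective).1 hc')
      refine ⟨(extT R A G (-1)).symm t, (extT R A G 0).injective ?_⟩
      refine Eq.symm ((extT_d G (-1) 0 _).trans ?_)
      rw [AddEquiv.apply_symm_apply, ht]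
    · intro z _
      obtain ⟨t, ht⟩ := hTsurj ((Algebra.IsPushout.equiv R A R' A').symm (coord A' z))
      refine ⟨(extT R A G 0).symm t, ?_, 0, ?_⟩
      · exact @Subsingleton.elim _ (ModuleCat.subsingleton_of_isZero
          ((ModuleCat.extendScalars (algebraMap R A)).map_isZero (hGb 1 (by omega)))) _ _
      · have hx : (epsT h ε).f 0 ((extT R A G 0).symm t) = z := by
          rw [epsT_T, AddEquiv.apply_symm_apply, ht, AlgEquiv.apply_symm_apply]
          exact smul_coord A' z
        exact (sub_eq_zero.2 hx).trans (map_zero _).symm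
  · have hT : ((DTen.resCx (algebraMap A A')).obj (𝟙_ (DRing.Cx A'))).ExactAt i :=
      ShortComplex.exact_of_isZero_X₂ _ ((ModuleCat.restrictScalars.{u} (algebraMap A A')).map_isZero
        (isZero_single_obj_X (ComplexShape.up ℤ) 0 _ _ hi))
    rw [quasiIsoAt_iff_exactAt' _ _ hT]
    rcases lt_or_gt_of_ne hi with hi' | hi'
    · obtain ⟨p, rfl⟩ : ∃ p : ℕ, i = -(p : ℤ) := ⟨(-i).toNat, by omega⟩
      haveI : IsIso (DerivedCategory.Q.map ε) := (DerivedCategory.isIso_Q_map_iff_quasiIso _ ε).2 hε
      exact exactAt_ext_of_tor (isKFl_of_isKProjective G)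
        (asIso (DerivedCategory.Q.map ε) ≪≫ DerivedCategory.Q.mapIso resOneIso) p (by omega) (htor p (by omega))
    · exact ShortComplex.exact_of_isZero_X₂ _
        ((ModuleCat.extendScalars (algebraMap R A)).map_isZero (hGb i (by omega)))

end Groth.Agent.TrivBCLib
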