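import Groth.Agent.TrivBCLib.Hexagon

/-!
# The actions of the two factors of a commutative square commute
-/

universe u

open CategoryTheory Limits MonoidalCategory HomologicalComplex DTen
open scoped TensorProduct

namespace Groth.Agent.TrivBCLib

attribute [local instance] HasDerivedCategory.standard

set_option linter.style.haveILetI false

open Groth.Agent.DTenLib Groth.Agent.DRingKFlat Groth.Agent.DRingTorAmp

variable {R A R' A' : Type u} [CommRing R] [CommRing A] [CommRing R'] [CommRing A']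
  {φ : R →+* A} {ρ : R →+* R'} {α : A →+* A'} {φ' : R' →+* A'} (h : α.comp φ = φ'.comp ρ)

/-- The action of `R'` on `res_φ res_α`. -/
noncomputable def actSq (Y : DRing.Cx A') :
    (DTen.resCx ρ).obj (𝟙_ (DRing.Cx R')) ⊗ (DTen.resCx φ).obj ((DTen.resCx α).obj Y) ⟶
      (DTen.resCx φ).obj ((DTen.resCx α).obj Y) :=
  (DTen.resCx ρ).obj (𝟙_ (DRing.Cx R')) ◁ (sqIso h).hom.app Y ≫ actCx ρ ((DTen.resCx φ').obj Y) ≫
    (sqIso h).inv.app Y

theorem actSq_el (Y : DRing.Cx A') (c : R') (n : ℤ) (x : Y.X n) :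
    (actSq h Y).f n (el ((DTen.resCx ρ).obj (𝟙_ _)) ((DTen.resCx φ).obj ((DTen.resCx α).obj Y)) 0 n n (zero_add n)
      (oneR ρ c) x) = (φ' c • x : Y.X n) := by
  simp only [actSq, HomologicalComplex.comp_f, ConcreteCategory.comp_apply]
  have e₁ := whiskerLeft_el (K := (DTen.resCx ρ).obj (𝟙_ (DRing.Cx R'))) ((sqIso h).hom.app Y) (zero_add n)
    (oneR ρ c) (show ((DTen.resCx φ).obj ((DTen.resCx α).obj Y)).X n from x)
  have e₂ := act_el ρ ((DTen.resCx φ').obj Y) c n (show ((DTen.resCx φ').obj Y).X n from x)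
  exact (congrArg _ (congrArg _ e₁)).trans ((congrArg _ e₂).trans rfl)

theorem act_comm_cx (Y : DRing.Cx A') :
    (α_ ((DTen.resCx φ).obj (𝟙_ (DRing.Cx A))) ((DTen.resCx ρ).obj (𝟙_ (DRing.Cx R')))
        ((DTen.resCx φ).obj ((DTen.resCx α).obj Y))).hom ≫
      (DTen.resCx φ).obj (𝟙_ (DRing.Cx A)) ◁ actSq h Y ≫ actCx φ ((DTen.resCx α).obj Y) =
    (DTen.braidCx ((DTen.resCx φ).obj (𝟙_ (DRing.Cx A))) ((DTen.resCx ρ).obj (𝟙_ (DRing.Cx R')))).hom ▷
        (DTen.resCx φ).obj ((DTen.resCx α).obj Y) ≫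
      (α_ ((DTen.resCx ρ).obj (𝟙_ (DRing.Cx R'))) ((DTen.resCx φ).obj (𝟙_ (DRing.Cx A)))
        ((DTen.resCx φ).obj ((DTen.resCx α).obj Y))).hom ≫
      (DTen.resCx ρ).obj (𝟙_ (DRing.Cx R')) ◁ actCx φ ((DTen.resCx α).obj Y) ≫ actSq h Y := by
  refine HomologicalComplex.hom_ext _ _ fun n => hom_ext_el₃ fun p q m r h₁ h₂ s t x => ?_
  by_cases hp : p = 0
  swap
  · rw [eq_zero_of_ne φ hp s]
    simp only [el_zero_left, map_zero]
  by_cases hq : q = 0
  swap
  · rw [eq_zero_of_ne ρ hq t]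
    simp only [el_zero_left, el_zero_right, map_zero]
  subst hp hq
  obtain rfl : m = 0 := by omega
  obtain rfl : r = n := by omega
  obtain ⟨a, rfl⟩ := exists_oneR φ s
  obtain ⟨c, rfl⟩ := exists_oneR ρ t
  simp only [HomologicalComplex.comp_f, ConcreteCategory.comp_apply]
  let T := (DTen.resCx φ).obj ((DTen.resCx α).obj Y)
  let S := (DTen.resCx φ).obj (𝟙_ (DRing.Cx A))
  let S' := (DTen.resCx ρ).obj (𝟙_ (DRing.Cx R'))
  have l₁ := assoc_el (K := S) (L := S') (M := T) h₁ h₂ (zero_add r) (zero_add r) (oneR φ a) (oneR ρ c) x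
  have l₂ := whiskerLeft_el (K := S) (actSq h Y) (zero_add r) (oneR φ a)
    (el S' T 0 r r (zero_add r) (oneR ρ c) x)
  have l₃ := actSq_el h Y c r x
  have l₄ := act_el φ ((DTen.resCx α).obj Y) a r (show ((DTen.resCx α).obj Y).X r from (φ' c • (show Y.X r from x) : Y.X r))
  have r₀ := braid_el S S' h₁ (oneR φ a) (oneR ρ c)
  rw [mul_zero, Int.negOnePow_zero, one_smul] at r₀
  have r₁ := whiskerRight_el (L := T) (DTen.braidCx S S').hom h₂ (el S S' 0 0 0 h₁ (oneR φ a) (oneR ρ c)) x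
  have r₂ := assoc_el (K := S') (L := S) (M := T) (zero_add (0:ℤ)) h₂ (zero_add r) (zero_add r) (oneR ρ c) (oneR φ a) x
  have r₃ := whiskerLeft_el (K := S') (actCx φ ((DTen.resCx α).obj Y)) (zero_add r) (oneR ρ c)
    (el S T 0 r r (zero_add r) (oneR φ a) x)
  have r₄ := act_el φ ((DTen.resCx α).obj Y) a r (show ((DTen.resCx α).obj Y).X r from x)
  have r₅ := actSq_el h Y c r (α a • (show Y.X r from x) : Y.X r)
  refine ((congrArg _ (congrArg _ l₁)).trans ((congrArg _ (l₂.trans (congrArg _ l₃))).trans l₄)).trans ?_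
  refine Eq.trans ?_ ((congrArg _ (congrArg _ (congrArg _ (r₁.trans (congrArg (fun w => el (S' ⊗ S) T 0 r r h₂ w x) r₀))))).trans
    ((congrArg _ (congrArg _ r₂)).trans ((congrArg _ (r₃.trans (congrArg _ r₄))).trans r₅))).symm
  show (α a • (φ' c • (show Y.X r from x)) : Y.X r) = φ' c • (α a • (show Y.X r from x))
  rw [smul_comm]

section Derived

variable [HasLTen R] [HasLTen A] [HasResTen φ] [ResLegIso φ] [HasLTen R'] [HasResTen ρ] [ResLegIso ρ]

/-- The action of `A` on `res_φ res_α V`. -/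
noncomputable def actA (V : Dual.D A') :
    (LTen₂ R).obj (resOne φ, (DRing.restrictD φ).obj ((DRing.restrictD α).obj V)) ⟶
      (DRing.restrictD φ).obj ((DRing.restrictD α).obj V) :=
  act φ ((DRing.restrictD α).obj V)

/-- The action of `R'` on `res_φ res_α V`. -/
noncomputable def actR (V : Dual.D A') :
    (LTen₂ R).obj (resOne ρ, (DRing.restrictD φ).obj ((DRing.restrictD α).obj V)) ⟶
      (DRing.restrictD φ).obj ((DRing.restrictD α).obj V) :=
  tm (𝟙 _) ((TrivBC.resComm h).hom.app V) ≫ act ρ ((DRing.restrictD φ').obj V) ≫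
    (TrivBC.resComm h).inv.app V

/-- `res_φ res_α` of a representative. -/
noncomputable def tau (φ : R →+* A) (α : A →+* A') (Y : DRing.Cx A') :
    (DRing.restrictD φ).obj ((DRing.restrictD α).obj (DerivedCategory.Q.obj Y)) ⟶
      DerivedCategory.Q.obj ((DTen.resCx φ).obj ((DTen.resCx α).obj Y)) :=
  (DRing.restrictD φ).map ((DTen.resFactors α).hom.app Y) ≫ rf φ ((DTen.resCx α).obj Y)

instance isIso_tau (φ : R →+* A) (α : A →+* A') (Y : DRing.Cx A') : IsIso (tau φ α Y) := by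
  delta tau
  infer_instance

theorem resComm_tau (Y : DRing.Cx A') :
    (TrivBC.resComm h).hom.app (DerivedCategory.Q.obj Y) ≫ tau ρ φ' Y =
      tau φ α Y ≫ DerivedCategory.Q.map ((sqIso h).hom.app Y) := by
  rw [resComm_Q, tau, tau, rf, rf]
  simp only [Category.assoc]
  erw [← Functor.map_comp_assoc (DRing.restrictD ρ), Iso.inv_hom_id_app, CategoryTheory.Functor.map_id,
    Category.id_comp, Iso.inv_hom_id_app, Category.comp_id]

theorem actA_tau (Y : DRing.Cx A') :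
    actA (φ := φ) (α := α) (DerivedCategory.Q.obj Y) ≫ tau φ α Y =
      tm (rf φ (𝟙_ (DRing.Cx A))) (tau φ α Y) ≫
        (ε R).app ((DTen.resCx φ).obj (𝟙_ _), (DTen.resCx φ).obj ((DTen.resCx α).obj Y)) ≫
          DerivedCategory.Q.map (actCx φ ((DTen.resCx α).obj Y)) := by
  rw [actA, tau]
  erw [← reassoc_of% (act_natural φ ((DTen.resFactors α).hom.app Y)), act_Q', ← tm_comp_assoc, Category.id_comp]

theorem actR_tau (Y : DRing.Cx A') :
    actR h (DerivedCategory.Q.obj Y) ≫ tau φ α Y =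
      tm (rf ρ (𝟙_ (DRing.Cx R'))) (tau φ α Y) ≫
        (ε R).app ((DTen.resCx ρ).obj (𝟙_ _), (DTen.resCx φ).obj ((DTen.resCx α).obj Y)) ≫
          DerivedCategory.Q.map (actSq h Y) := by
  have hinv : (TrivBC.resComm h).inv.app (DerivedCategory.Q.obj Y) ≫ tau φ α Y =
      tau ρ φ' Y ≫ DerivedCategory.Q.map ((sqIso h).inv.app Y) := by
    rw [← cancel_epi ((TrivBC.resComm h).hom.app (DerivedCategory.Q.obj Y)), Iso.hom_inv_id_app_assoc,
      reassoc_of% resComm_tau, ← Functor.map_comp, Iso.hom_inv_id_app]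
    erw [CategoryTheory.Functor.map_id, Category.comp_id]
  rw [actR, Category.assoc, Category.assoc]
  erw [hinv]
  have hA : act ρ ((DRing.restrictD φ').obj (DerivedCategory.Q.obj Y)) ≫ tau ρ φ' Y =
      tm (rf ρ (𝟙_ (DRing.Cx R'))) (tau ρ φ' Y) ≫
        (ε R).app ((DTen.resCx ρ).obj (𝟙_ _), (DTen.resCx ρ).obj ((DTen.resCx φ').obj Y)) ≫
          DerivedCategory.Q.map (actCx ρ ((DTen.resCx φ').obj Y)) := actA_tau (φ := ρ) (α := φ') Y
  erw [reassoc_of% hA, ← tm_comp_assoc, Category.id_comp, resComm_tau]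
  rw [show tm (rf ρ (𝟙_ (DRing.Cx R'))) (tau φ α Y ≫ DerivedCategory.Q.map ((sqIso h).hom.app Y)) =
    tm (rf ρ (𝟙_ (DRing.Cx R'))) (tau φ α Y) ≫ tm (𝟙 _) (DerivedCategory.Q.map ((sqIso h).hom.app Y)) by
      rw [← tm_comp, Category.comp_id], Category.assoc]
  erw [ε_natural_right_assoc]
  simp only [actSq, Functor.map_comp]

variable [HasLTen₃ R] [IsSymMonoidal R]

theorem act_comm (V : Dual.D A') :
    (DTen.associator (resOne φ) (resOne ρ) ((DRing.restrictD φ).obj ((DRing.restrictD α).obj V))).hom ≫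
        tm (𝟙 _) (actR h V) ≫ actA (φ := φ) (α := α) V =
      tm ((DTen.symm R).app (resOne ρ, resOne φ)) (𝟙 _) ≫
        (DTen.associator (resOne ρ) (resOne φ) ((DRing.restrictD φ).obj ((DRing.restrictD α).obj V))).hom ≫
          tm (𝟙 _) (actA (φ := φ) (α := α) V) ≫ actR h V := by
  obtain ⟨Y, rfl⟩ := Q_obj_surjective V
  rw [← cancel_mono (tau φ α Y)]
  simp only [Category.assoc]
  rw [actA_tau, actR_tau, ← tm_comp_assoc, ← tm_comp_assoc, Category.id_comp, Category.id_comp, actA_tau,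
    actR_tau]
  rw [split_right (tm (rf φ (𝟙_ (DRing.Cx A))) (tau φ α Y)), split_right (tm (rf ρ (𝟙_ (DRing.Cx R'))) (tau φ α Y))]
  simp only [Category.assoc]
  rw [← associator_natural_assoc, ← associator_natural_assoc]
  have hs : tm (rf φ (𝟙_ (DRing.Cx A))) (rf ρ (𝟙_ (DRing.Cx R'))) ≫
      (DTen.symm R).app (DerivedCategory.Q.obj ((DTen.resCx ρ).obj (𝟙_ (DRing.Cx R'))),
        DerivedCategory.Q.obj ((DTen.resCx φ).obj (𝟙_ (DRing.Cx A)))) =
      (DTen.symm R).app (resOne ρ, resOne φ) ≫ tm (rf ρ (𝟙_ (DRing.Cx R'))) (rf φ (𝟙_ (DRing.Cx A))) :=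
    (DTen.symm R).naturality (Prod.mkHom (rf ρ (𝟙_ (DRing.Cx R'))) (rf φ (𝟙_ (DRing.Cx A))))
  have hcomb : tm ((DTen.symm R).app (resOne ρ, resOne φ)) (𝟙 _) ≫
      tm (tm (rf ρ (𝟙_ (DRing.Cx R'))) (rf φ (𝟙_ (DRing.Cx A)))) (tau φ α Y) =
    tm (tm (rf φ (𝟙_ (DRing.Cx A))) (rf ρ (𝟙_ (DRing.Cx R')))) (tau φ α Y) ≫ tm ((DTen.symm R).app
      (DerivedCategory.Q.obj ((DTen.resCx ρ).obj (𝟙_ (DRing.Cx R'))),
        DerivedCategory.Q.obj ((DTen.resCx φ).obj (𝟙_ (DRing.Cx A))))) (𝟙 _) := by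
    rw [← tm_comp, ← tm_comp, hs, Category.id_comp, Category.comp_id]
  rw [reassoc_of% hcomb]
  refine congrArg (fun z => tm (tm (rf φ (𝟙_ (DRing.Cx A))) (rf ρ (𝟙_ (DRing.Cx R')))) (tau φ α Y) ≫ z) ?_
  erw [ε_natural_right_assoc, ε_natural_right_assoc, associator_ε_assoc, associator_ε_assoc,
    ← tm_comp_left_assoc, DTen.symm_fac R, tm_comp_left_assoc, ε_natural_left_assoc]
  simp only [← Functor.map_comp]
  exact congrArg (fun f => tm ((ε R).app ((DTen.resCx φ).obj (𝟙_ (DRing.Cx A)), (DTen.resCx ρ).obj (𝟙_ (DRing.Cx R'))))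
    (𝟙 (DerivedCategory.Q.obj ((DTen.resCx φ).obj ((DTen.resCx α).obj Y)))) ≫
      (ε R).app ((DTen.resCx φ).obj (𝟙_ (DRing.Cx A)) ⊗ (DTen.resCx ρ).obj (𝟙_ (DRing.Cx R')),
        (DTen.resCx φ).obj ((DTen.resCx α).obj Y)) ≫ DerivedCategory.Q.map f) (act_comm_cx h Y)

end Derived

end Groth.Agent.TrivBCLib
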