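import Groth.Agent.TrivBCLib.Square
import Groth.Agent.DTenLib.Proj
import Groth.Agent.DRingTorAmp.TorDim
import Groth.Agent.DRingTorAmp.Restrict
import Groth.Agent.FlatComplex.Elementwise

/-!
# Base change of restriction along a tor independent cocartesian square
-/

universe u

open CategoryTheory Limits MonoidalCategory HomologicalComplex DTen
open scoped TensorProduct ChangeOfRings

namespace Groth.Agent.TrivBCLib

attribute [local instance] HasDerivedCategory.standard

set_option linter.style.haveILetI false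

open Groth.Agent.DTenLib Groth.Agent.DRingKFlat Groth.Agent.DRingTorAmp

theorem braid_el {A : Type u} [CommRing A] (K L : DRing.Cx A) {p q n : ℤ} (h : p + q = n) (x : K.X p)
    (y : L.X q) :
    (DTen.braidCx K L).hom.f n (el K L p q n h x y) =
      (p * q).negOnePow • el L K q p n (by omega) y x :=
  (congrArg (fun f => f (x ⊗ₜ[A] y)) (DTen.ι_braidCx_hom K L p q n h)).trans rfl

variable {R A R' A' : Type u} [CommRing R] [CommRing A] [CommRing R'] [CommRing A']
  {φ : R →+* A} {ρ : R →+* R'} {α : A →+* A'} {φ' : R' →+* A'} (h : α.comp φ = φ'.comp ρ)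

/-- The coordinate of an element of the unit in degree `0`. -/
noncomputable def coord (B : Type u) [CommRing B] : (𝟙_ (DRing.Cx B)).X 0 →ₗ[B] B :=
  (singleObjXSelf (ComplexShape.up ℤ) 0 (𝟙_ (ModuleCat.{u} B))).hom.hom

theorem smul_coord (B : Type u) [CommRing B] (s : (𝟙_ (DRing.Cx B)).X 0) : coord B s • one B = s := by
  obtain ⟨r, rfl⟩ := unit_X_eq_smul s
  rw [map_smul, show coord B (one B) = 1 from
    (singleObjXSelf (ComplexShape.up ℤ) 0 (𝟙_ (ModuleCat.{u} B))).inv_hom_id_apply (1 : B),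
    smul_eq_mul, mul_one]

/-- `res R' ⟶ res A'` in degree `0`. -/
noncomputable def kappaLin :
    ((DTen.resCx ρ).obj (𝟙_ (DRing.Cx R'))).X 0 →ₗ[R]
      ((DTen.resCx φ).obj ((DTen.resCx α).obj (𝟙_ (DRing.Cx A')))).X 0 where
  toFun s := (φ' (coord R' s) • one A' : (𝟙_ (DRing.Cx A')).X 0)
  map_add' a b :=
    ((congrArg (fun z => (φ' z) • one A') (map_add (coord R') a b)).trans
      ((congrArg (· • one A') (map_add φ' _ _)).trans (add_smul _ _ _)))
  map_smul' r a := by
    show (φ' (coord R' (ρ r • (show (𝟙_ (DRing.Cx R')).X 0 from a))) • one A' : (𝟙_ (DRing.Cx A')).X 0) = _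
    rw [map_smul, smul_eq_mul, map_mul, ← RingHom.comp_apply, ← h, RingHom.comp_apply, mul_smul]
    rfl

open Classical in
/-- `res R' ⟶ res A'`, degreewise. -/
noncomputable def kappaF (i : ℤ) :
    ((DTen.resCx ρ).obj (𝟙_ (DRing.Cx R'))).X i ⟶
      ((DTen.resCx φ).obj ((DTen.resCx α).obj (𝟙_ (DRing.Cx A')))).X i :=
  if hi : i = 0 then eqToHom (by rw [hi]) ≫ ModuleCat.ofHom (kappaLin h) ≫ eqToHom (by rw [hi]) else 0

/-- `res R' ⟶ res A'`. -/
noncomputable def kappa :
    (DTen.resCx ρ).obj (𝟙_ (DRing.Cx R')) ⟶ (DTen.resCx φ).obj ((DTen.resCx α).obj (𝟙_ (DRing.Cx A'))) where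
  f := kappaF h
  comm' i j hij := by
    have hij' : i + 1 = j := hij
    by_cases hi : i = 0
    · refine IsZero.eq_of_tgt ?_ _ _
      exact (ModuleCat.restrictScalars φ).map_isZero ((ModuleCat.restrictScalars α).map_isZero
        (isZero_single_obj_X (ComplexShape.up ℤ) 0 _ _ (by omega)))
    · refine IsZero.eq_of_src ?_ _ _
      exact (ModuleCat.restrictScalars ρ).map_isZero (isZero_single_obj_X (ComplexShape.up ℤ) 0 _ _ hi)

theorem kappa_el (s : ((DTen.resCx ρ).obj (𝟙_ (DRing.Cx R'))).X 0) :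
    (kappa h).f 0 s = (φ' (coord R' s) • one A' : (𝟙_ (DRing.Cx A')).X 0) := by
  show kappaF h 0 s = _
  rw [kappaF, dif_pos rfl, eqToHom_refl, eqToHom_refl, Category.id_comp, Category.comp_id]
  rfl

variable {G : DRing.Cx R} (ε : G ⟶ (DTen.resCx ρ).obj (𝟙_ (DRing.Cx R')))

/-- `A ⊗ G ⟶ A'`. -/
noncomputable def epsT : (DTen.extCx φ).obj G ⟶ (DTen.resCx α).obj (𝟙_ (DRing.Cx A')) :=
  ((DTenLib.cxAdj φ).homEquiv _ _).symm (ε ≫ kappa h)

theorem epsT_el (a : A) (y : G.X 0) :
    (epsT h ε).f 0 (a ⊗ₜ[R,φ] y : ((DTen.extCx φ).obj G).X 0) =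
      ((α a * φ' (coord R' (ε.f 0 y))) • one A' : (𝟙_ (DRing.Cx A')).X 0) := by
  rw [epsT, adjunct_elem]
  show (α a • (show (𝟙_ (DRing.Cx A')).X 0 from (kappa h).f 0 (ε.f 0 y)) : (𝟙_ (DRing.Cx A')).X 0) = _
  rw [kappa_el, mul_smul]

variable (P : DRing.Cx A) {F : DRing.Cx R} (π : F ⟶ (DTen.resCx φ).obj P)

/-- The comparison map on representatives. -/
noncomputable def cmpCx : (DTen.extCx ρ).obj F ⟶ (DTen.resCx φ').obj ((DTen.extCx α).obj P) :=
  ((DTenLib.cxAdj ρ).homEquiv _ _).symm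
    (π ≫ (DTen.resCx φ).map ((DTen.unitCx α).app P) ≫ (sqIso h).hom.app ((DTen.extCx α).obj P))

theorem cmpCx_el (c : R') (n : ℤ) (x : F.X n) :
    (cmpCx h P π).f n (c ⊗ₜ[R,ρ] x : ((DTen.extCx ρ).obj F).X n) =
      ((φ' c) ⊗ₜ[A,α] (show P.X n from π.f n x) : ((DTen.extCx α).obj P).X n) := by
  rw [cmpCx, adjunct_elem]
  show (φ' c • oneT α (show P.X n from π.f n x) : ((DTen.extCx α).obj P).X n) = _
  show ((φ' c * 1) ⊗ₜ[A,α] _) = _
  rw [mul_one]
  rfl

/-- The route through the resolution of `R'`. -/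
noncomputable def routeG :
    G ⊗ F ⟶ (DTen.resCx ρ).obj ((DTen.resCx φ').obj ((DTen.extCx α).obj P)) :=
  G ◁ π ≫ (DTen.braidCx G ((DTen.resCx φ).obj P)).hom ≫ projCx φ P G ≫
    (DTen.resCx φ).map (P ◁ epsT h ε) ≫
      (DTen.resCx φ).map (DTen.braidCx P ((DTen.resCx α).obj (𝟙_ (DRing.Cx A')))).hom ≫
        (DTen.resCx φ).map (piCx α P) ≫ (sqIso h).hom.app ((DTen.extCx α).obj P)

theorem route_eq :
    ε ▷ F ≫ piCx ρ F ≫ (DTen.resCx ρ).map (cmpCx h P π) = routeG h ε P π := by
  refine cx_ext_el fun n q p hqp y x => ?_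
  simp only [routeG, HomologicalComplex.comp_f, ConcreteCategory.comp_apply]
  have e₁ := whiskerRight_el (L := F) ε hqp y x
  have f₁ := whiskerLeft_el (K := G) π hqp y x
  have f₂ := braid_el G ((DTen.resCx φ).obj P) hqp y (π.f p x)
  have hpq : p + q = n := by omega
  have f₃ : (projCx φ P G).f n (el ((DTen.resCx φ).obj P) G p q n hpq (π.f p x) y) =
      el P ((DTen.extCx φ).obj G) p q n hpq (show P.X p from π.f p x) (oneT φ y) := by
    have e := whiskerLeft_el (K := (DTen.resCx φ).obj P) ((DTen.unitCx φ).app G) hpq (π.f p x) y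
    exact (congrArg (fun z => (resTenCx φ P ((DTen.extCx φ).obj G)).f n z) e).trans
      (resTen_el φ P ((DTen.extCx φ).obj G) hpq _ (oneT φ y))
  have f₄ := whiskerLeft_el (K := P) (epsT h ε) hpq (show P.X p from π.f p x) (oneT φ y)
  by_cases hq : q = 0
  · subst hq
    obtain rfl : p = n := by omega
    obtain ⟨c, hc⟩ := exists_oneR ρ (ε.f 0 y)
    have hc' : coord R' (ε.f 0 y) = c := by
      rw [hc]
      show coord R' (c • one R') = c
      rw [map_smul, show coord R' (one R') = 1 from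
        (singleObjXSelf (ComplexShape.up ℤ) 0 (𝟙_ (ModuleCat.{u} R'))).inv_hom_id_apply (1 : R'),
        smul_eq_mul, mul_one]
    have hl : ((DTen.resCx ρ).map (cmpCx h P π)).f p ((piCx ρ F).f p ((ε ▷ F).f p
        (el G F 0 p p hqp y x))) =
        ((φ' c) ⊗ₜ[A,α] (show P.X p from π.f p x) : ((DTen.extCx α).obj P).X p) := by
      rw [e₁, hc]
      exact (congrArg _ (piCx_el ρ F c p x)).trans (cmpCx_el h P π c p x)
    have he : (epsT h ε).f 0 (oneT φ y) =
        (φ' c • one A' : (𝟙_ (DRing.Cx A')).X 0) := by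
      refine (epsT_el h ε 1 y).trans ?_
      rw [map_one, one_mul, hc']
    have f₅ := braid_el P ((DTen.resCx α).obj (𝟙_ (DRing.Cx A'))) hpq (show P.X p from π.f p x)
      (oneR α (φ' c))
    refine hl.trans ?_
    rw [f₁, f₂, zero_mul, Int.negOnePow_zero, one_smul]
    refine Eq.symm ?_
    refine (congrArg _ (congrArg _ (congrArg _ (congrArg _ f₃)))).trans ?_
    refine (congrArg _ (congrArg _ (congrArg _ (f₄.trans
      (congrArg (fun z => el P _ p 0 p hpq (show P.X p from π.f p x) z) he))))).trans ?_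
    refine (congrArg _ (congrArg _ f₅)).trans ?_
    rw [mul_zero, Int.negOnePow_zero, one_smul]
    exact (congrArg _ (piCx_el α P (φ' c) p (show P.X p from π.f p x))).trans
      (sqIso_el h _ p _)
  · have hl : (ε ▷ F).f n (el G F q p n hqp y x) = 0 := by
      rw [e₁, eq_zero_of_ne ρ hq (ε.f q y), el_zero_left]
    have he : (epsT h ε).f q (oneT φ y) = 0 := eq_zero_of_ne α hq _
    rw [hl, map_zero, map_zero, f₁, f₂]
    refine Eq.symm ?_
    rw [Units.smul_def, map_zsmul, f₃, map_zsmul]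
    refine (congrArg _ (congrArg _ (congrArg _ (congrArg (fun z => _ • z) (f₄.trans
      (congrArg (fun z => el P _ p q n hpq (show P.X p from π.f p x) z) he)))))).trans ?_
    rw [el_zero_right]
    exact (congrArg _ (congrArg _ (congrArg _ (smul_zero _)))).trans
      ((congrArg _ (congrArg _ (map_zero _))).trans ((congrArg _ (map_zero _)).trans (map_zero _)))

theorem quasiIso_cmpCx [P.IsKProjective] [F.IsKProjective] [QuasiIso π] (hG : IsKFl G) [QuasiIso ε]
    [QuasiIso (epsT h ε)] : QuasiIso (cmpCx h P π) := by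
  have hP := isKFl_of_isKProjective P
  have hF := isKFl_of_isKProjective F
  haveI := whiskerLeft_qis' π hG
  haveI := whiskerRight_qis ε hF
  haveI := isIso_projCx φ P G
  haveI := isIso_piCx α P
  haveI := isIso_piCx ρ F
  haveI : QuasiIso (P ◁ epsT h ε) := whiskerLeft_qis' _ hP
  haveI : QuasiIso ((DTen.resCx φ).map (P ◁ epsT h ε)) :=
    (HomologicalComplex.quasiIso_map_iff_of_preservesHomology _ _).2 inferInstance
  haveI : QuasiIso (routeG h ε P π) := by
    rw [routeG]
    infer_instance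
  haveI : QuasiIso ((ε ▷ F ≫ piCx ρ F) ≫ (DTen.resCx ρ).map (cmpCx h P π)) := by
    rw [Category.assoc, route_eq]
    infer_instance
  haveI : QuasiIso (ε ▷ F ≫ piCx ρ F) := inferInstance
  exact (HomologicalComplex.quasiIso_map_iff_of_preservesHomology _ _).1
    (quasiIso_of_comp_left (ε ▷ F ≫ piCx ρ F) ((DTen.resCx ρ).map (cmpCx h P π)))

theorem isIso_cmp_Q [DRing.HasLBaseChange ρ] [DRing.HasLBaseChange α]
    (adjρ : DRing.LBaseChange ρ ⊣ DRing.restrictD ρ) (adjα : DRing.LBaseChange α ⊣ DRing.restrictD α)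
    [P.IsKProjective] (hG : IsKFl G) [QuasiIso ε] [QuasiIso (epsT h ε)] :
    IsIso (TrivBC.cmp adjρ adjα h (DerivedCategory.Q.obj P)) := by
  obtain ⟨F, π, hF, hπ, -⟩ := DRingKProj.exists_resolution ((DTen.resCx φ).obj P)
  haveI := hF
  haveI := hπ
  haveI := quasiIso_cmpCx h ε P π hG
  haveI : IsIso (DerivedCategory.Q.map π) := (DerivedCategory.isIso_Q_map_iff_quasiIso _ π).2 inferInstance
  haveI : IsIso (DerivedCategory.Q.map (cmpCx h P π)) :=
    (DerivedCategory.isIso_Q_map_iff_quasiIso _ _).2 inferInstance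
  let ι : DerivedCategory.Q.obj F ⟶ (DRing.restrictD φ).obj (DerivedCategory.Q.obj P) :=
    DerivedCategory.Q.map π ≫ (DTen.resFactors φ).inv.app P
  haveI := isIso_adjunct_unitQ α adjα P
  haveI := isIso_adjunct_unitQ ρ adjρ F
  let Tα := (adjα.homEquiv _ _).symm (unitQ α P)
  have hT : adjα.unit.app (DerivedCategory.Q.obj P) ≫ (DRing.restrictD α).map Tα = unitQ α P :=
    (adjα.homEquiv_unit _ _ _).symm.trans (Equiv.apply_symm_apply _ _)
  have key : ι ≫ (DRing.restrictD φ).map (unitQ α P) ≫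
      (TrivBC.resComm h).hom.app (DerivedCategory.Q.obj ((DTen.extCx α).obj P)) =
      unitQ ρ F ≫ (DRing.restrictD ρ).map (DerivedCategory.Q.map (cmpCx h P π) ≫
        (DTen.resFactors φ').inv.app ((DTen.extCx α).obj P)) := by
    rw [resComm_Q, Functor.map_comp, reassoc_of% unitQ_comp ρ F (cmpCx h P π), cmpCx, Equiv.apply_symm_apply]
    simp only [ι, unitQ, Functor.map_comp, Category.assoc]
    rw [← Functor.map_comp_assoc (DRing.restrictD φ), ← Functor.map_comp_assoc (DRing.restrictD φ)]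
    simp only [Category.assoc, Iso.inv_hom_id_app]
    erw [Category.comp_id]
    have hn := (DTen.resFactors φ).hom.naturality ((DTen.unitCx α).app P)
    dsimp at hn
    erw [reassoc_of% hn, Iso.inv_hom_id_app_assoc]
  haveI : IsIso ((DRing.LBaseChange ρ).map ι ≫ TrivBC.cmp adjρ adjα h (DerivedCategory.Q.obj P) ≫
      (DRing.restrictD φ').map Tα) := by
    have e : (DRing.LBaseChange ρ).map ι ≫ TrivBC.cmp adjρ adjα h (DerivedCategory.Q.obj P) ≫
        (DRing.restrictD φ').map Tα = (adjρ.homEquiv _ _).symm (unitQ ρ F) ≫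
          DerivedCategory.Q.map (cmpCx h P π) ≫ (DTen.resFactors φ').inv.app ((DTen.extCx α).obj P) := by
      rw [← adjρ.homEquiv_naturality_right_symm, ← key, TrivBC.cmp, ← Adjunction.homEquiv_naturality_right_symm,
        ← Adjunction.homEquiv_naturality_left_symm]
      congr 1
      simp only [Category.assoc]
      congr 1
      erw [← (TrivBC.resComm h).hom.naturality Tα]
      show _ ≫ (DRing.restrictD φ).map ((DRing.restrictD α).map Tα) ≫ _ = _
      rw [← Functor.map_comp_assoc, hT]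
    rw [e]
    infer_instance
  haveI : IsIso (TrivBC.cmp adjρ adjα h (DerivedCategory.Q.obj P) ≫ (DRing.restrictD φ').map Tα) :=
    IsIso.of_isIso_comp_left ((DRing.LBaseChange ρ).map ι) _
  exact IsIso.of_isIso_comp_right _ ((DRing.restrictD φ').map Tα)

theorem cmp_natural [DRing.HasLBaseChange ρ] [DRing.HasLBaseChange α]
    (adjρ : DRing.LBaseChange ρ ⊣ DRing.restrictD ρ) (adjα : DRing.LBaseChange α ⊣ DRing.restrictD α)
    {K K' : Dual.D A} (f : K ⟶ K') :
    (DRing.LBaseChange ρ).map ((DRing.restrictD φ).map f) ≫ TrivBC.cmp adjρ adjα h K' =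
      TrivBC.cmp adjρ adjα h K ≫ (DRing.restrictD φ').map ((DRing.LBaseChange α).map f) := by
  rw [TrivBC.cmp, TrivBC.cmp, ← Adjunction.homEquiv_naturality_left_symm,
    ← Adjunction.homEquiv_naturality_right_symm]
  congr 1
  have h1 := adjα.unit.naturality f
  dsimp at h1
  rw [← Functor.map_comp_assoc, h1, Functor.map_comp, Category.assoc, Category.assoc]
  congr 1
  exact (TrivBC.resComm h).hom.naturality _

theorem isIso_cmp [DRing.HasLBaseChange ρ] [DRing.HasLBaseChange α]
    (adjρ : DRing.LBaseChange ρ ⊣ DRing.restrictD ρ) (adjα : DRing.LBaseChange α ⊣ DRing.restrictD α)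
    (hG : IsKFl G) [QuasiIso ε] [QuasiIso (epsT h ε)] (K : Dual.D A) :
    IsIso (TrivBC.cmp adjρ adjα h K) := by
  obtain ⟨P, hP, ⟨e⟩⟩ := exists_kproj K
  haveI : P.IsKProjective := hP
  haveI := isIso_cmp_Q h ε P adjρ adjα hG
  haveI : IsIso ((DRing.LBaseChange ρ).map ((DRing.restrictD φ).map e.hom) ≫ TrivBC.cmp adjρ adjα h K) := by
    rw [cmp_natural]
    infer_instance
  exact IsIso.of_isIso_comp_left ((DRing.LBaseChange ρ).map ((DRing.restrictD φ).map e.hom)) _

end Groth.Agent.TrivBCLib
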