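import Groth.Agent.TrivBCLib.Cmp

/-!
# The hexagon for the derived tensor product
-/

universe u

open CategoryTheory Limits MonoidalCategory HomologicalComplex DTen
open scoped TensorProduct

namespace Groth.Agent.TrivBCLib

attribute [local instance] HasDerivedCategory.standard

set_option linter.style.haveILetI false

open Groth.Agent.DTenLib Groth.Agent.DRingKFlat Groth.Agent.DRingTorAmp

variable {A : Type u} [CommRing A]

theorem hexCx (K L M : DRing.Cx A) :
    (DTen.braidCx (L ⊗ M) K).hom ≫ (α_ K L M).inv ≫ (DTen.braidCx K L).hom ▷ M ≫ (α_ L K M).hom =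
      (α_ L M K).hom ≫ L ◁ (DTen.braidCx M K).hom := by
  refine HomologicalComplex.hom_ext _ _ fun n => hom_ext_el₃ fun q r m p h₁ h₂ y z x => ?_
  simp only [HomologicalComplex.comp_f, ConcreteCategory.comp_apply]
  have hpm : p + m = n := by omega
  have hpq : p + q = p + q := rfl
  have e₁ := braid_el (L ⊗ M) K h₂ (el L M q r m h₁ y z) x
  have e₂ := assoc_inv_el (K := K) (L := L) (M := M) hpq (show (p + q) + r = n by omega) h₁ hpm x y z
  have e₃ := whiskerRight_el (L := M) (DTen.braidCx K L).hom (show (p + q) + r = n by omega)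
    (el K L p q (p + q) hpq x y) z
  have e₄ := braid_el K L hpq x y
  have e₅ := assoc_el (K := L) (L := K) (M := M) (show q + p = p + q by omega) (show (p + q) + r = n by omega)
    (show p + r = p + r from rfl) (show q + (p + r) = n by omega) y x z
  have f₁ := assoc_el (K := L) (L := M) (M := K) h₁ h₂ (show r + p = p + r by omega)
    (show q + (p + r) = n by omega) y z x
  have f₂ := whiskerLeft_el (K := L) (DTen.braidCx M K).hom (show q + (p + r) = n by omega) y
    (el M K r p (p + r) (by omega) z x)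
  have f₃ := braid_el M K (show r + p = p + r by omega) z x
  let T := el L (K ⊗ M) q (p + r) n (show q + (p + r) = n by omega) y (el K M p r (p + r) rfl x z)
  have hr : (L ◁ (DTen.braidCx M K).hom).f n ((α_ L M K).hom.f n (el (L ⊗ M) K m p n h₂ (el L M q r m h₁ y z) x)) =
      ((r * p).negOnePow : ℤ) • T := by
    refine (congrArg _ f₁).trans (f₂.trans ((congrArg _ f₃).trans ?_))
    rw [Units.smul_def]
    show el L (K ⊗ M) q (p + r) n _ y (((r * p).negOnePow : ℤ) • el K M p r (p + r) rfl x z) = _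
    rw [el, TensorProduct.tmul_smul, map_zsmul]
    rfl
  have hl : (α_ L K M).hom.f n (((DTen.braidCx K L).hom ▷ M).f n ((α_ K L M).inv.f n
      (el K (L ⊗ M) p m n hpm x (el L M q r m h₁ y z)))) = ((p * q).negOnePow : ℤ) • T := by
    refine ((congrArg _ ((congrArg _ e₂).trans (e₃.trans (congrArg (fun w => el (L ⊗ K) M (p + q) r n
      (by omega) w z) e₄))))).trans ?_
    rw [Units.smul_def, el, ← TensorProduct.smul_tmul', map_zsmul, map_zsmul]
    exact congrArg (fun w => ((p * q).negOnePow : ℤ) • w) e₅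
  rw [e₁, Units.smul_def, map_zsmul, map_zsmul, map_zsmul]
  refine (congrArg (fun w => ((m * p).negOnePow : ℤ) • w) hl).trans (Eq.trans ?_ hr.symm)
  rw [smul_smul, ← Units.val_mul, ← Int.negOnePow_add]
  refine congrArg (fun w : ℤˣ => (w : ℤ) • T) ((Int.negOnePow_eq_iff _ _).2 ⟨p * q, ?_⟩)
  rw [← h₁]
  ring

variable [HasLTen A] [HasLTen₃ A] [IsSymMonoidal A]

theorem hexagon (a b c : Dual.D A) :
    (DTen.symm A).app (a, (LTen₂ A).obj (b, c)) ≫ (DTen.associator a b c).inv ≫
        tm ((DTen.symm A).app (b, a)) (𝟙 c) ≫ (DTen.associator b a c).hom =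
      (DTen.associator b c a).hom ≫ tm (𝟙 b) ((DTen.symm A).app (a, c)) := by
  obtain ⟨P, hP, ⟨i⟩⟩ := exists_kproj a
  obtain ⟨L, hL, ⟨j⟩⟩ := exists_kproj b
  obtain ⟨M, hM, ⟨k⟩⟩ := exists_kproj c
  haveI : P.IsKProjective := hP
  haveI : L.IsKProjective := hL
  haveI : M.IsKProjective := hM
  suffices H : (DTen.symm A).app (DerivedCategory.Q.obj P,
      (LTen₂ A).obj (DerivedCategory.Q.obj L, DerivedCategory.Q.obj M)) ≫ (DTen.associator _ _ _).inv ≫
        tm ((DTen.symm A).app (DerivedCategory.Q.obj L, DerivedCategory.Q.obj P)) (𝟙 _) ≫ (DTen.associator _ _ _).hom =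
      (DTen.associator _ _ _).hom ≫ tm (𝟙 _) ((DTen.symm A).app (DerivedCategory.Q.obj P, DerivedCategory.Q.obj M)) by
    rw [← cancel_epi (tm (tm j.hom k.hom) i.hom)]
    have n₁ : tm (tm j.hom k.hom) i.hom ≫ (DTen.symm A).app (a, (LTen₂ A).obj (b, c)) =
        (DTen.symm A).app (DerivedCategory.Q.obj P,
          (LTen₂ A).obj (DerivedCategory.Q.obj L, DerivedCategory.Q.obj M)) ≫ tm i.hom (tm j.hom k.hom) :=
      (DTen.symm A).naturality (Prod.mkHom i.hom (tm j.hom k.hom))
    have n₂ : tm i.hom (tm j.hom k.hom) ≫ (DTen.associator a b c).inv =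
        (DTen.associator _ _ _).inv ≫ tm (tm i.hom j.hom) k.hom := by
      rw [Iso.comp_inv_eq, Category.assoc, associator_natural, Iso.inv_hom_id_assoc]
    have n₃ : tm i.hom j.hom ≫ (DTen.symm A).app (b, a) =
        (DTen.symm A).app (DerivedCategory.Q.obj L, DerivedCategory.Q.obj P) ≫ tm j.hom i.hom :=
      (DTen.symm A).naturality (Prod.mkHom j.hom i.hom)
    have n₄ : tm k.hom i.hom ≫ (DTen.symm A).app (a, c) =
        (DTen.symm A).app (DerivedCategory.Q.obj P, DerivedCategory.Q.obj M) ≫ tm i.hom k.hom :=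
      (DTen.symm A).naturality (Prod.mkHom i.hom k.hom)
    rw [reassoc_of% n₁, reassoc_of% n₂, ← tm_comp_assoc, n₃, Category.comp_id, associator_natural_assoc,
      ← tm_comp, n₄, Category.comp_id]
    rw [show tm ((DTen.symm A).app (DerivedCategory.Q.obj L, DerivedCategory.Q.obj P) ≫ tm j.hom i.hom) k.hom =
      tm ((DTen.symm A).app (DerivedCategory.Q.obj L, DerivedCategory.Q.obj P)) (𝟙 _) ≫ tm (tm j.hom i.hom) k.hom by
        rw [← tm_comp, Category.id_comp], Category.assoc, associator_natural]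
    rw [show tm j.hom ((DTen.symm A).app (DerivedCategory.Q.obj P, DerivedCategory.Q.obj M) ≫ tm i.hom k.hom) =
      tm (𝟙 _) ((DTen.symm A).app (DerivedCategory.Q.obj P, DerivedCategory.Q.obj M)) ≫ tm j.hom (tm i.hom k.hom) by
        rw [← tm_comp, Category.id_comp]]
    rw [← Category.assoc, ← Category.assoc, ← Category.assoc, ← Category.assoc]
    refine congrArg (· ≫ tm j.hom (tm i.hom k.hom)) ?_
    simpa only [Category.assoc] using H
  haveI := isIso_ε (A := A) (K := P) (L := M) (Or.inl (isKFl_of_isKProjective P))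
  haveI := isIso_ε (A := A) (K := L) (L := P ⊗ M) (Or.inl (isKFl_of_isKProjective L))
  rw [← cancel_mono (tm (𝟙 (DerivedCategory.Q.obj L)) ((ε A).app (P, M)) ≫ (ε A).app (L, P ⊗ M))]
  simp only [Category.assoc]
  have s₁ : (DTen.symm A).app (DerivedCategory.Q.obj L, DerivedCategory.Q.obj P) ≫ (ε A).app (L, P) =
      (ε A).app (P, L) ≫ DerivedCategory.Q.map (DTen.braidCx P L).hom := DTen.symm_fac A L P
  have s₂ : (DTen.symm A).app (DerivedCategory.Q.obj P, DerivedCategory.Q.obj M) ≫ (ε A).app (P, M) =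
      (ε A).app (M, P) ≫ DerivedCategory.Q.map (DTen.braidCx M P).hom := DTen.symm_fac A P M
  have s₃ : (DTen.symm A).app (DerivedCategory.Q.obj P, DerivedCategory.Q.obj (L ⊗ M)) ≫ (ε A).app (P, L ⊗ M) =
      (ε A).app (L ⊗ M, P) ≫ DerivedCategory.Q.map (DTen.braidCx (L ⊗ M) P).hom := DTen.symm_fac A P (L ⊗ M)
  have n₅ : (DTen.symm A).app (DerivedCategory.Q.obj P,
      (LTen₂ A).obj (DerivedCategory.Q.obj L, DerivedCategory.Q.obj M)) ≫ tm (𝟙 _) ((ε A).app (L, M)) =
      tm ((ε A).app (L, M)) (𝟙 _) ≫ (DTen.symm A).app (DerivedCategory.Q.obj P, DerivedCategory.Q.obj (L ⊗ M)) :=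
    ((DTen.symm A).naturality (Prod.mkHom (𝟙 (DerivedCategory.Q.obj P)) ((ε A).app (L, M)))).symm
  have i₁ : (DTen.associator (DerivedCategory.Q.obj P) (DerivedCategory.Q.obj L) (DerivedCategory.Q.obj M)).inv ≫
      tm ((ε A).app (P, L)) (𝟙 _) ≫ (ε A).app (P ⊗ L, M) =
      tm (𝟙 _) ((ε A).app (L, M)) ≫ (ε A).app (P, L ⊗ M) ≫ DerivedCategory.Q.map (α_ P L M).inv := by
    rw [Iso.inv_comp_eq, associator_ε_assoc, ← Functor.map_comp, Iso.hom_inv_id, CategoryTheory.Functor.map_id,
      Category.comp_id]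
  rw [associator_ε, ← tm_comp_left_assoc, s₁, tm_comp_left_assoc, ε_natural_left_assoc]
  erw [reassoc_of% i₁, reassoc_of% n₅, reassoc_of% s₃]
  rw [← tm_comp_right_assoc, s₂, tm_comp_right, Category.assoc, ε_natural_right]
  erw [associator_ε_assoc]
  simp only [← Functor.map_comp]
  exact congrArg (fun (f : (L ⊗ M : DRing.Cx A) ⊗ P ⟶ L ⊗ (P ⊗ M)) => tm ((ε A).app (L, M)) (𝟙 (DerivedCategory.Q.obj P)) ≫
    (ε A).app (L ⊗ M, P) ≫ DerivedCategory.Q.map f) (hexCx P L M)

end Groth.Agent.TrivBCLib
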