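import Groth.Prelude.Def_TrivBC
import Groth.Agent.DTenLib.BaseAdj
import Groth.Agent.DTenLib.BCModule

/-!
# The commutation of restrictions, computed on complexes; adjuncts of base change on representatives
-/

universe u

open CategoryTheory Limits MonoidalCategory HomologicalComplex DTen
open scoped TensorProduct ChangeOfRings

namespace Groth.Agent.TrivBCLib

attribute [local instance] HasDerivedCategory.standard

set_option linter.style.haveILetI false

open Groth.Agent.DTenLib Groth.Agent.DRingKFlat Groth.Agent.DRingTorAmp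

section Square

variable {R A R' A' : Type u} [CommRing R] [CommRing A] [CommRing R'] [CommRing A']
  {φ : R →+* A} {ρ : R →+* R'} {α : A →+* A'} {φ' : R' →+* A'} (h : α.comp φ = φ'.comp ρ)

/-- The identification of the two restrictions of complexes. -/
noncomputable def sqIso :
    DTen.resCx α ⋙ DTen.resCx φ ≅ DTen.resCx φ' ⋙ DTen.resCx ρ :=
  Functor.mapHomologicalComplexCompIso (TrivBC.resCommMod h) (ComplexShape.up ℤ) ≪≫
    (Functor.mapHomologicalComplexCompIso
      (Iso.refl (ModuleCat.restrictScalars.{u} φ' ⋙ ModuleCat.restrictScalars.{u} ρ)) (ComplexShape.up ℤ)).symm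

theorem sqIso_el (Y : DRing.Cx A') (n : ℤ) (y : Y.X n) :
    ((sqIso h).hom.app Y).f n (show ((DTen.resCx φ).obj ((DTen.resCx α).obj Y)).X n from y) = y :=
  rfl

theorem resComm_Q (Y : DRing.Cx A') :
    (TrivBC.resComm h).hom.app (DerivedCategory.Q.obj Y) =
      (DRing.restrictD φ).map ((DTen.resFactors α).hom.app Y) ≫
        (DTen.resFactors φ).hom.app ((DTen.resCx α).obj Y) ≫
          DerivedCategory.Q.map ((sqIso h).hom.app Y) ≫
            (DTen.resFactors ρ).inv.app ((DTen.resCx φ').obj Y) ≫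
              (DRing.restrictD ρ).map ((DTen.resFactors φ').inv.app Y) := by
  letI i₁ := TrivBC.liftingRes₂ α φ
  letI i₂ := TrivBC.liftingRes₂ φ' ρ
  show (Localization.liftNatTrans (DerivedCategory.Q (C := ModuleCat.{u} A'))
    (HomologicalComplex.quasiIso (ModuleCat.{u} A') (ComplexShape.up ℤ)) _ _ _ _
      (TrivBC.resCommCx h).hom).app (DerivedCategory.Q.obj Y) = _
  rw [Localization.liftNatTrans_app]
  have e₁ : (TrivBC.liftingRes₂ α φ).iso.hom.app Y = (DRing.restrictD φ).map ((DTen.resFactors α).hom.app Y) ≫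
      (DTen.resFactors φ).hom.app ((DTen.resCx α).obj Y) := by
    show ((Functor.associator _ _ _).symm ≪≫
      Functor.isoWhiskerRight (ModuleCat.restrictScalars.{u} α).mapDerivedCategoryFactors _ ≪≫
        Functor.associator _ _ _ ≪≫
          Functor.isoWhiskerLeft _ (ModuleCat.restrictScalars.{u} φ).mapDerivedCategoryFactors).hom.app Y = _
    simp
  have e₂ : (TrivBC.liftingRes₂ φ' ρ).iso.inv.app Y = (DTen.resFactors ρ).inv.app ((DTen.resCx φ').obj Y) ≫
      (DRing.restrictD ρ).map ((DTen.resFactors φ').inv.app Y) := by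
    show ((Functor.associator _ _ _).symm ≪≫
      Functor.isoWhiskerRight (ModuleCat.restrictScalars.{u} φ').mapDerivedCategoryFactors _ ≪≫
        Functor.associator _ _ _ ≪≫
          Functor.isoWhiskerLeft _ (ModuleCat.restrictScalars.{u} ρ).mapDerivedCategoryFactors).inv.app Y = _
    simp
  erw [e₁, e₂]
  simp [TrivBC.resCommCx, sqIso]

end Square

section Adjunct

variable {R R' : Type u} [CommRing R] [CommRing R'] (ρ : R →+* R')

/-- The unit at a representative. -/
noncomputable def unitQ (F : DRing.Cx R) :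
    DerivedCategory.Q.obj F ⟶ (DRing.restrictD ρ).obj (DerivedCategory.Q.obj ((DTen.extCx ρ).obj F)) :=
  DerivedCategory.Q.map ((DTen.unitCx ρ).app F) ≫ (DTen.resFactors ρ).inv.app ((DTen.extCx ρ).obj F)

theorem unitQ_comp (F : DRing.Cx R) {L : DRing.Cx R'} (g : (DTen.extCx ρ).obj F ⟶ L) :
    unitQ ρ F ≫ (DRing.restrictD ρ).map (DerivedCategory.Q.map g) =
      DerivedCategory.Q.map ((DTenLib.cxAdj ρ).homEquiv _ _ g) ≫ (DTen.resFactors ρ).inv.app L := by
  have h := (DTen.resFactors ρ).inv.naturality g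
  dsimp at h
  rw [unitQ, Category.assoc]
  erw [← h, ← Category.assoc, ← Functor.map_comp]
  rfl

theorem bijective_unitQ (F : DRing.Cx R) [F.IsKProjective] (Y : Dual.D R') :
    Function.Bijective fun f : DerivedCategory.Q.obj ((DTen.extCx ρ).obj F) ⟶ Y =>
      unitQ ρ F ≫ (DRing.restrictD ρ).map f := by
  haveI := isKProjective_ext ρ F
  obtain ⟨L, ⟨e⟩⟩ : ∃ L : DRing.Cx R', Nonempty (DerivedCategory.Q.obj L ≅ Y) :=
    ⟨_, ⟨DerivedCategory.Q.objObjPreimageIso Y⟩⟩
  have key : ∀ g : (DTen.extCx ρ).obj F ⟶ L,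
      unitQ ρ F ≫ (DRing.restrictD ρ).map (DerivedCategory.Q.map g ≫ e.hom) =
        DerivedCategory.Q.map ((DTenLib.cxAdj ρ).homEquiv _ _ g) ≫ (DTen.resFactors ρ).inv.app L ≫
          (DRing.restrictD ρ).map e.hom := fun g => by
    rw [Functor.map_comp, reassoc_of% unitQ_comp ρ F g]
  have hrepr : ∀ x : DerivedCategory.Q.obj ((DTen.extCx ρ).obj F) ⟶ Y,
      ∃ g : (DTen.extCx ρ).obj F ⟶ L, DerivedCategory.Q.map g ≫ e.hom = x := fun x => by
    obtain ⟨g, hg⟩ := DRingComplete.exists_Q_map_eq ((DTen.extCx ρ).obj F) L (x ≫ e.inv)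
    exact ⟨g, by rw [hg, Category.assoc, Iso.inv_hom_id, Category.comp_id]⟩
  constructor
  · intro x y hxy
    obtain ⟨g, rfl⟩ := hrepr x
    obtain ⟨g', rfl⟩ := hrepr y
    dsimp only at hxy
    erw [key g, key g'] at hxy
    rw [cancel_mono] at hxy
    obtain ⟨t⟩ := homotopy_of_Q_eq hxy
    obtain ⟨t'⟩ := adjunct_homotopy (ModuleCat.extendRestrictScalarsAdj.{u, u, u} ρ) t
    rw [DerivedCategory.Q_map_eq_of_homotopy (ModuleCat.{u} R') t']
  · intro m
    obtain ⟨g, hg⟩ := DRingComplete.exists_Q_map_eq F ((DTen.resCx ρ).obj L)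
      (m ≫ (DRing.restrictD ρ).map e.inv ≫ (DTen.resFactors ρ).hom.app L)
    refine ⟨DerivedCategory.Q.map (((DTenLib.cxAdj ρ).homEquiv _ _).symm g) ≫ e.hom, ?_⟩
    dsimp only
    erw [key]
    rw [Equiv.apply_symm_apply, hg]
    simp

/-- For any adjunction, the adjunct of the unit at a representative is an isomorphism. -/
theorem isIso_adjunct_unitQ [DRing.HasLBaseChange ρ]
    (adj : DRing.LBaseChange ρ ⊣ DRing.restrictD ρ) (F : DRing.Cx R) [F.IsKProjective] :
    IsIso ((adj.homEquiv _ _).symm (unitQ ρ F)) := by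
  refine isIso_of_coyoneda_map_bijective _ fun Y => ?_
  have e : (fun f : DerivedCategory.Q.obj ((DTen.extCx ρ).obj F) ⟶ Y =>
      (adj.homEquiv _ _).symm (unitQ ρ F) ≫ f) =
      ((adj.homEquiv _ Y).symm) ∘ fun f => unitQ ρ F ≫ (DRing.restrictD ρ).map f :=
    funext fun f => (adj.homEquiv_naturality_right_symm _ _).symm
  rw [e]
  exact (adj.homEquiv _ Y).symm.bijective.comp (bijective_unitQ ρ F Y)

theorem adjunct_elem {F : DRing.Cx R} {L : DRing.Cx R'} (t : F ⟶ (DTen.resCx ρ).obj L) (c : R') (n : ℤ)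
    (x : F.X n) :
    (((DTenLib.cxAdj ρ).homEquiv _ _).symm t).f n (c ⊗ₜ[R,ρ] x : ((DTen.extCx ρ).obj F).X n) =
      (c • (show L.X n from t.f n x) : L.X n) := by
  have h1 : (((DTenLib.cxAdj ρ).homEquiv _ _).symm t).f n (oneT ρ x) = t.f n x := by
    have h := (DTenLib.cxAdj ρ).homEquiv_unit F L (((DTenLib.cxAdj ρ).homEquiv _ _).symm t)
    rw [Equiv.apply_symm_apply] at h
    exact (congrArg (fun f => f x) (congrArg (fun f => HomologicalComplex.Hom.f f n) h)).symm
  have h2 : (c ⊗ₜ[R,ρ] x : ((DTen.extCx ρ).obj F).X n) = c • oneT ρ x := by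
    show _ = ((c * 1) ⊗ₜ[R,ρ] x)
    rw [mul_one]
    rfl
  rw [h2, map_smul, h1]

end Adjunct

end Groth.Agent.TrivBCLib
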